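import Groth.Agent.Etsix.H994.ExtDelta
import Mathlib.Algebra.Homology.DerivedCategory.Ext.Map
import Mathlib.CategoryTheory.Monoidal.Category
import Mathlib.Algebra.DirectSum.Basic
import Mathlib.Algebra.Module.Equiv.Basic

/-!
# Abstract cross products of Ext classes

Abelian categories `C₁`, `C₂`, `D` with unit objects `o₁`, `o₂`, `o`, exact functors `p : C₁ ⥤ D`, `q : C₂ ⥤ D` with
`o ⟶ p o₁`, `o ⟶ q o₂`, and a bifunctor `T` on `D`, exact in both variables, with a natural map `A ⟶ T A o`.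
The cross product `Ext(o₁, K) × Ext(o₂, L) → Ext(o, T (p K) (q L))`, in the same shape as `EtSix.cross`.
-/

set_option autoImplicit false

universe w v u

open CategoryTheory CategoryTheory.Limits CategoryTheory.Abelian TensorProduct

namespace Groth.Agent.Etsix.H994.AbsCross

open DimShift Groth.Agent.Etsix.H994.Homotopy ExtDelta

variable {C₁ C₂ D : Type u} [Category.{v} C₁] [Category.{v} C₂] [Category.{v} D] [Abelian C₁] [Abelian C₂]
  [Abelian D] [HasExt.{w} C₁] [HasExt.{w} C₂] [HasExt.{w} D]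

section Pull

variable (p : C₁ ⥤ D) [p.Additive] [PreservesFiniteLimits p] [PreservesFiniteColimits p] {o₁ : C₁} {o : D}
  (e : o ⟶ p.obj o₁)

/-- Pullback of classes. -/
noncomputable def hPull (K : C₁) (n : ℕ) : Ext.{w} o₁ K n →+ Ext.{w} o (p.obj K) n :=
  AddMonoidHom.comp
    (AddMonoidHom.mk' (fun x => (Ext.mk₀ e).comp x (zero_add n)) (fun _ _ => Ext.comp_add _ _ _ _))
    (p.mapExtAddHom _ _ n)

theorem hPull_apply (K : C₁) (n : ℕ) (x : Ext.{w} o₁ K n) :
    hPull p e K n x = (Ext.mk₀ e).comp (x.mapExactFunctor p) (zero_add n) := rfl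

theorem hPull_comp {K K' : C₁} {a b c : ℕ} (h : a + b = c) (x : Ext.{w} o₁ K a) (y : Ext.{w} K K' b) :
    hPull p e K' c (x.comp y h) = (hPull p e K a x).comp (y.mapExactFunctor p) h := by
  rw [hPull_apply, hPull_apply, Ext.mapExactFunctor_comp, Ext.comp_assoc _ _ _ (zero_add a) h (by omega)]

theorem hPull_mk₀ {K : C₁} (x : o₁ ⟶ K) : hPull p e K 0 (Ext.mk₀ x) = Ext.mk₀ (e ≫ p.map x) := by
  rw [hPull_apply, Ext.mapExactFunctor_mk₀, Ext.mk₀_comp_mk₀]

end Pull

section Cup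

variable (F : D ⥤ D) [F.Additive] [PreservesFiniteLimits F] [PreservesFiniteColimits F] {o A : D}
  (η : A ⟶ F.obj o)

/-- `β ↦ F(β) ∘ η`. -/
noncomputable def cupR (B : D) (n : ℕ) : Ext.{w} o B n →+ Ext.{w} A (F.obj B) n :=
  AddMonoidHom.comp
    (AddMonoidHom.mk' (fun x => (Ext.mk₀ η).comp x (zero_add n)) (fun _ _ => Ext.comp_add _ _ _ _))
    (F.mapExtAddHom _ _ n)

theorem cupR_apply (B : D) (n : ℕ) (x : Ext.{w} o B n) :
    cupR F η B n x = (Ext.mk₀ η).comp (x.mapExactFunctor F) (zero_add n) := rfl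

theorem cupR_comp {B B' : D} {a b c : ℕ} (h : a + b = c) (x : Ext.{w} o B a) (y : Ext.{w} B B' b) :
    cupR F η B' c (x.comp y h) = (cupR F η B a x).comp (y.mapExactFunctor F) h := by
  rw [cupR_apply, cupR_apply, Ext.mapExactFunctor_comp, Ext.comp_assoc _ _ _ (zero_add a) h (by omega)]

theorem cupR_mk₀ {B : D} (x : o ⟶ B) : cupR F η B 0 (Ext.mk₀ x) = Ext.mk₀ (η ≫ F.map x) := by
  rw [cupR_apply, Ext.mapExactFunctor_mk₀, Ext.mk₀_comp_mk₀]

end Cup

section Cross

variable (p : C₁ ⥤ D) [p.Additive] [PreservesFiniteLimits p] [PreservesFiniteColimits p]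
  (q : C₂ ⥤ D) [q.Additive] [PreservesFiniteLimits q] [PreservesFiniteColimits q] {o₁ : C₁} {o₂ : C₂} {o : D}
  (e₁ : o ⟶ p.obj o₁) (e₂ : o ⟶ q.obj o₂)

section fixedK

variable (K : C₁) (F : D ⥤ D) [F.Additive] [PreservesFiniteLimits F] [PreservesFiniteColimits F]
  (η : p.obj K ⟶ F.obj o) (L : C₂)

/-- The cross product, for fixed `K`, with `F = T (p K)`. -/
noncomputable def cr (i j : ℕ) {m : ℕ} (h : i + j = m) :
    Ext.{w} o₁ K i →+ Ext.{w} o₂ L j →+ Ext.{w} o (F.obj (q.obj L)) m :=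
  AddMonoidHom.mk'
    (fun α => AddMonoidHom.comp (AddMonoidHom.mk'
        (fun β => (hPull p e₁ K i α).comp (cupR F η (q.obj L) j β) h) (fun β β' => by rw [map_add, Ext.comp_add]))
      (hPull q e₂ L j))
    (fun α α' => by
      refine AddMonoidHom.ext fun β => ?_
      simp only [AddMonoidHom.coe_comp, Function.comp_apply, AddMonoidHom.mk'_apply, AddMonoidHom.add_apply, map_add]
      exact Ext.add_comp _ _ _ h)

theorem cr_apply (i j : ℕ) {m : ℕ} (h : i + j = m) (α : Ext.{w} o₁ K i) (β : Ext.{w} o₂ L j) :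
    cr p q e₁ e₂ K F η L i j h α β = (hPull p e₁ K i α).comp (cupR F η (q.obj L) j (hPull q e₂ L j β)) h := rfl

theorem cr_comp_right {L L' : C₂} (i j : ℕ) {m : ℕ} (h : i + j = m) {b j' m' : ℕ} (hj : j + b = j')
    (hm : m + b = m') (α : Ext.{w} o₁ K i) (β : Ext.{w} o₂ L j) (x : Ext.{w} L L' b) :
    cr p q e₁ e₂ K F η L' i j' (by omega) α (β.comp x hj) =
      (cr p q e₁ e₂ K F η L i j h α β).comp ((x.mapExactFunctor q).mapExactFunctor F) hm := by
  rw [cr_apply, cr_apply, hPull_comp, cupR_comp, Ext.comp_assoc _ _ _ h hj (by omega)]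

/-- The cross product on the tensor product. -/
noncomputable def crT (i j : ℕ) {m : ℕ} (h : i + j = m) :
    Ext.{w} o₁ K i ⊗[ℤ] Ext.{w} o₂ L j →+ Ext.{w} o (F.obj (q.obj L)) m :=
  (TensorProduct.lift
    ((addMonoidHomLequivInt (A := Ext.{w} o₂ L j) (B := Ext.{w} o (F.obj (q.obj L)) m) ℤ).toLinearMap
      ∘ₗ (cr p q e₁ e₂ K F η L i j h).toIntLinearMap)).toAddMonoidHom

@[simp] theorem crT_tmul (i j : ℕ) {m : ℕ} (h : i + j = m) (α : Ext.{w} o₁ K i) (β : Ext.{w} o₂ L j) :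
    crT p q e₁ e₂ K F η L i j h (α ⊗ₜ β) = cr p q e₁ e₂ K F η L i j h α β := rfl

/-- The sum of the cross products in degree `n`. -/
noncomputable def crSum (n : ℕ) : Tl (fun i => Ext.{w} o₁ K i) o₂ n L →+ Ext.{w} o (F.obj (q.obj L)) n where
  toFun t := ∑ i : Fin (n + 1), crT p q e₁ e₂ K F η L i (n - i) (by omega) (t i)
  map_zero' := by simp
  map_add' x y := by simp [Finset.sum_add_distrib]

theorem crSum_apply (n : ℕ) (t : Tl (fun i => Ext.{w} o₁ K i) o₂ n L) :
    crSum p q e₁ e₂ K F η L n t = ∑ i : Fin (n + 1), crT p q e₁ e₂ K F η L i (n - i) (by omega) (t i) := rfl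

theorem crT_tm {L L' : C₂} (i j : ℕ) {m : ℕ} (h : i + j = m) {b j' m' : ℕ} (hj : j + b = j')
    (hm : m + b = m') (x : Ext.{w} L L' b) (t : Ext.{w} o₁ K i ⊗[ℤ] Ext.{w} o₂ L j) :
    crT p q e₁ e₂ K F η L' i j' (by omega) (tm _ (x.postcomp o₂ hj) t) =
      (crT p q e₁ e₂ K F η L i j h t).comp ((x.mapExactFunctor q).mapExactFunctor F) hm := by
  induction t with
  | zero => simp
  | tmul α β =>
    rw [tm_tmul, crT_tmul, crT_tmul]
    exact cr_comp_right p q e₁ e₂ K F η i j h hj hm α β x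
  | add x y hx hy => simp only [map_add, hx, hy, Ext.add_comp]

theorem sum_comp' {E : Type*} [Category* E] [Abelian E] [HasExt.{w} E] {X Y Z : E} {a b c : ℕ} {ι : Type*}
    (s : Finset ι) (x : ι → Ext.{w} X Y a) (y : Ext.{w} Y Z b) (h : a + b = c) :
    (∑ i ∈ s, x i).comp y h = ∑ i ∈ s, (x i).comp y h :=
  map_sum (y.postcomp X h) _ _

/-- Step L: dimension shifting in `L`. -/
theorem stepL (ℓ : ℕ) [Fact ℓ.Prime] [EnoughInjectives C₂]
    (hℓ : ∀ (L : C₂) (n : ℕ) (x : Ext.{w} o₂ L n), ℓ • x = 0)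
    (hJ : ∀ (J : C₂) [Injective J] (n : ℕ), Function.Bijective (crSum p q e₁ e₂ K F η J n)) (n : ℕ) (L : C₂) :
    Function.Bijective (crSum p q e₁ e₂ K F η L n) := by
  have : PreservesFiniteLimits (q ⋙ F) := comp_preservesFiniteLimits _ _
  have : PreservesFiniteColimits (q ⋙ F) := comp_preservesFiniteColimits _ _
  refine bijective (tlDelta (fun i => Ext.{w} o₁ K i) o₂ hℓ) (extDelta (q ⋙ F) o)
    (fun n L => crSum p q e₁ e₂ K F η L n) ?_ ?_ hJ n L
  · intro n L L' φ t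
    change crSum p q e₁ e₂ K F η L' n (fun i => tm _ ((Ext.mk₀ φ).postcomp o₂ (add_zero (n - i))) (t i)) =
      (crSum p q e₁ e₂ K F η L n t).comp (Ext.mk₀ (F.map (q.map φ))) (add_zero n)
    rw [crSum_apply, crSum_apply, sum_comp']
    refine Finset.sum_congr rfl (fun i _ => ?_)
    rw [crT_tm p q e₁ e₂ K F η i (n - i) (by omega) (add_zero (n - i)) (add_zero n) (Ext.mk₀ φ) (t i),
      Ext.mapExactFunctor_mk₀, Ext.mapExactFunctor_mk₀]
  · intro n S hS t
    change crSum p q e₁ e₂ K F η S.X₁ (n + 1) (snocHom (fun i => tm _ (hS.extClass.postcomp o₂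
        (sub_castSucc_add i))) t) =
      (crSum p q e₁ e₂ K F η S.X₃ n t).comp (hS.map_of_exact (q ⋙ F)).extClass rfl
    rw [crSum_apply, crSum_apply, sum_comp', Fin.sum_univ_castSucc, snocHom_last, map_zero, add_zero]
    refine Finset.sum_congr rfl (fun i _ => ?_)
    rw [snocHom_castSucc]
    have h1 := crT_tm p q e₁ e₂ K F η i (n - i) (m := n) (by omega) (sub_castSucc_add i) rfl hS.extClass (t i)
    have h2 : (hS.extClass.mapExactFunctor q).mapExactFunctor F = (hS.map_of_exact (q ⋙ F)).extClass :=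
      (congrArg (Ext.mapExactFunctor F) (Ext.mapExactFunctor_extClass q hS)).trans
        (Ext.mapExactFunctor_extClass F (hS.map_of_exact q))
    rw [h2] at h1
    exact h1

/-- Reduction of the injective case to the product with `H^0`. -/
theorem crSum_bijective_of_injective [Injective L] (n : ℕ)
    (h : Function.Bijective (crT p q e₁ e₂ K F η L n 0 (add_zero n))) :
    Function.Bijective (crSum p q e₁ e₂ K F η L n) := by
  have key : ∀ (j : ℕ) (hj : j = 0) (hn : n + j = n),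
      Function.Bijective (crT p q e₁ e₂ K F η L n j hn) := by
    rintro j rfl hn
    exact h
  have h0 := key (n - ((Fin.last n : Fin (n + 1)) : ℕ)) (by simp) (by simp)
  have hs : ∀ (i : Fin n), Subsingleton (Ext.{w} o₁ K i.castSucc ⊗[ℤ] Ext.{w} o₂ L (n - (i.castSucc : ℕ))) := fun i => by
    obtain ⟨k, hk⟩ : ∃ k, n - (i.castSucc : ℕ) = k + 1 := ⟨n - i - 1, by
      have := i.2
      simp only [Fin.val_castSucc]
      omega⟩
    rw [hk]
    have : Subsingleton (Ext.{w} o₂ L (k + 1)) := Ext.subsingleton_of_injective _ _ _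
    refine ⟨fun x y => ?_⟩
    have hz : ∀ x : Ext.{w} o₁ K i.castSucc ⊗[ℤ] Ext.{w} o₂ L (k + 1), x = 0 := fun x => by
      induction x with
      | zero => rfl
      | tmul a b => rw [Subsingleton.elim b 0, TensorProduct.tmul_zero]
      | add x y hx hy => rw [hx, hy, add_zero]
    rw [hz x, hz y]
  have hc : ∀ t, crSum p q e₁ e₂ K F η L n t =
      crT p q e₁ e₂ K F η L (Fin.last n : Fin (n + 1)) (n - ((Fin.last n : Fin (n + 1)) : ℕ)) (by simp)
        (t (Fin.last n)) := fun t => by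
    rw [crSum_apply, Fin.sum_univ_castSucc, Finset.sum_eq_zero, zero_add]
    intro i _
    rw [(hs i).elim (t i.castSucc) 0, map_zero]
  constructor
  · rw [injective_iff_map_eq_zero]
    intro t ht
    rw [hc] at ht
    funext i
    refine Fin.lastCases ?_ (fun j => ?_) i
    · exact (injective_iff_map_eq_zero _).1 h0.1 _ ht
    · exact (hs j).elim _ _
  · intro u
    obtain ⟨x, hx⟩ := h0.2 u
    refine ⟨Function.update 0 (Fin.last n) x, ?_⟩
    rw [hc, Function.update_self]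
    exact hx

end fixedK

section varK

variable (T : D ⥤ D ⥤ D) [∀ A, (T.obj A).Additive] [∀ A, PreservesFiniteLimits (T.obj A)]
  [∀ A, PreservesFiniteColimits (T.obj A)] [∀ B, (T.flip.obj B).Additive]
  [∀ B, PreservesFiniteLimits (T.flip.obj B)] [∀ B, PreservesFiniteColimits (T.flip.obj B)]
  (η : ∀ A : D, A ⟶ (T.obj A).obj o)
  (hη : ∀ {A A' : D} (φ : A ⟶ A'), φ ≫ η A' = η A ≫ (T.map φ).app o) (L : C₂)

/-- The natural transformation `A ⟶ T A (q L)` attached to `b : o₂ ⟶ L`. -/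
noncomputable def tauMap (b : o₂ ⟶ L) (A : D) : A ⟶ (T.obj A).obj (q.obj L) :=
  η A ≫ (T.obj A).map (e₂ ≫ q.map b)

include hη in
omit [Abelian C₂] [Abelian D] [HasExt.{w} C₂] [HasExt.{w} D] [Abelian C₁] [HasExt.{w} C₁] [q.Additive]
  [PreservesFiniteLimits q] [PreservesFiniteColimits q] [∀ A, (T.obj A).Additive]
  [∀ A, PreservesFiniteLimits (T.obj A)] [∀ A, PreservesFiniteColimits (T.obj A)] [∀ B, (T.flip.obj B).Additive]
  [∀ B, PreservesFiniteLimits (T.flip.obj B)] [∀ B, PreservesFiniteColimits (T.flip.obj B)] in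
theorem tauMap_nat (b : o₂ ⟶ L) {A A' : D} (φ : A ⟶ A') :
    φ ≫ tauMap q e₂ T η L b A' = tauMap q e₂ T η L b A ≫ (T.map φ).app (q.obj L) := by
  unfold tauMap
  rw [← Category.assoc, hη, Category.assoc, Category.assoc, NatTrans.naturality]

theorem cr_mk₀ (K : C₁) (n : ℕ) (α : Ext.{w} o₁ K n) (b : o₂ ⟶ L) :
    cr p q e₁ e₂ K (T.obj (p.obj K)) (η _) L n 0 (add_zero n) α (Ext.mk₀ b) =
      (hPull p e₁ K n α).comp (Ext.mk₀ (tauMap q e₂ T η L b (p.obj K))) (add_zero n) := by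
  rw [cr_apply, hPull_mk₀, cupR_mk₀]
  rfl

include hη in
theorem crT_mt_mk₀ {K K' : C₁} (n : ℕ) (φ : K ⟶ K') (t : Ext.{w} o₁ K n ⊗[ℤ] Ext.{w} o₂ L 0) :
    crT p q e₁ e₂ K' (T.obj (p.obj K')) (η _) L n 0 (add_zero n) (mt _ ((Ext.mk₀ φ).postcomp o₁ (add_zero n)) t) =
      (crT p q e₁ e₂ K (T.obj (p.obj K)) (η _) L n 0 (add_zero n) t).comp
        (Ext.mk₀ ((T.map (p.map φ)).app (q.obj L))) (add_zero n) := by
  induction t with
  | zero => simp
  | tmul α β =>
    obtain ⟨b, rfl⟩ := (Ext.mk₀_bijective o₂ L).2 β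
    rw [mt_tmul, crT_tmul, crT_tmul]
    change cr p q e₁ e₂ K' (T.obj (p.obj K')) (η _) L n 0 (add_zero n) (α.comp (Ext.mk₀ φ) (add_zero n)) (Ext.mk₀ b) = _
    rw [cr_mk₀, cr_mk₀, hPull_comp, Ext.mapExactFunctor_mk₀, Ext.comp_assoc_of_third_deg_zero,
      Ext.comp_assoc_of_third_deg_zero, Ext.mk₀_comp_mk₀, Ext.mk₀_comp_mk₀, tauMap_nat q e₂ T η hη L b (p.map φ)]
  | add x y hx hy => simp only [map_add, hx, hy, Ext.add_comp]

include hη in
theorem crT_mt_extClass (n : ℕ) (S : ShortComplex C₁) (hS : S.ShortExact)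
    (hS' : (S.map (p ⋙ T.flip.obj (q.obj L))).ShortExact) (t : Ext.{w} o₁ S.X₃ n ⊗[ℤ] Ext.{w} o₂ L 0) :
    crT p q e₁ e₂ S.X₁ (T.obj (p.obj S.X₁)) (η _) L (n + 1) 0 (add_zero (n + 1))
        (mt _ (hS.extClass.postcomp o₁ rfl) t) =
      (crT p q e₁ e₂ S.X₃ (T.obj (p.obj S.X₃)) (η _) L n 0 (add_zero n) t).comp
        hS'.extClass rfl := by
  induction t with
  | zero =>
    rw [map_zero, map_zero, map_zero]
    exact (Ext.zero_comp _ _ _ _ _).symm
  | tmul α β =>
    obtain ⟨b, rfl⟩ := (Ext.mk₀_bijective o₂ L).2 β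
    rw [mt_tmul, crT_tmul, crT_tmul]
    change cr p q e₁ e₂ S.X₁ (T.obj (p.obj S.X₁)) (η _) L (n + 1) 0 (add_zero (n + 1)) (α.comp hS.extClass rfl)
      (Ext.mk₀ b) = _
    rw [cr_mk₀, cr_mk₀, hPull_comp, Ext.mapExactFunctor_extClass, Ext.comp_assoc_of_third_deg_zero,
      Ext.comp_assoc_of_second_deg_zero]
    have h := ShortComplex.ShortExact.extClass_naturality (hS.map_of_exact p) hS'
      { τ₁ := tauMap q e₂ T η L b (p.obj S.X₁)
        τ₂ := tauMap q e₂ T η L b (p.obj S.X₂)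
        τ₃ := tauMap q e₂ T η L b (p.obj S.X₃)
        comm₁₂ := (tauMap_nat q e₂ T η hη L b (p.map S.f)).symm
        comm₂₃ := (tauMap_nat q e₂ T η hη L b (p.map S.g)).symm }
    exact congrArg (fun z => (hPull p e₁ S.X₃ n α).comp z rfl) h
  | add x y hx hy =>
    rw [map_add, map_add, map_add, hx, hy]
    exact (Ext.add_comp _ _ _ _).symm

include hη in
/-- Step K: dimension shifting in `K` (products with `H^0(L)`). -/
theorem stepK (ℓ : ℕ) [Fact ℓ.Prime] [EnoughInjectives C₁]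
    (hℓ : ∀ (K : C₁) (n : ℕ) (x : Ext.{w} o₁ K n), ℓ • x = 0)
    (hI : ∀ (I : C₁) [Injective I] (n : ℕ), Function.Bijective
      (crT p q e₁ e₂ I (T.obj (p.obj I)) (η _) L n 0 (add_zero n))) (n : ℕ) (K : C₁) :
    Function.Bijective (crT p q e₁ e₂ K (T.obj (p.obj K)) (η _) L n 0 (add_zero n)) := by
  have : PreservesFiniteLimits (p ⋙ T.flip.obj (q.obj L)) := comp_preservesFiniteLimits _ _
  have : PreservesFiniteColimits (p ⋙ T.flip.obj (q.obj L)) := comp_preservesFiniteColimits _ _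
  refine bijective (tkDelta o₁ (Ext.{w} o₂ L 0) hℓ) (extDelta (p ⋙ T.flip.obj (q.obj L)) o)
    (fun n K => crT p q e₁ e₂ K (T.obj (p.obj K)) (η _) L n 0 (add_zero n)) ?_ ?_ hI n K
  · intro n K K' φ t
    exact crT_mt_mk₀ p q e₁ e₂ T η hη L n φ t
  · intro n S hS t
    exact crT_mt_extClass p q e₁ e₂ T η hη L n S hS (hS.map_of_exact (p ⋙ T.flip.obj (q.obj L))) t

include hη in
/-- **Abstract reduction.** -/
theorem main (ℓ : ℕ) [Fact ℓ.Prime] [EnoughInjectives C₁] [EnoughInjectives C₂]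
    (hℓ₁ : ∀ (K : C₁) (n : ℕ) (x : Ext.{w} o₁ K n), ℓ • x = 0)
    (hℓ₂ : ∀ (L : C₂) (n : ℕ) (x : Ext.{w} o₂ L n), ℓ • x = 0)
    (h0 : ∀ (I : C₁) (J : C₂) [Injective I] [Injective J],
      Function.Bijective (crT p q e₁ e₂ I (T.obj (p.obj I)) (η _) J 0 0 (add_zero 0)))
    (h1 : ∀ (I : C₁) (J : C₂) [Injective I] [Injective J] (n : ℕ), 0 < n →
      Subsingleton (Ext.{w} o ((T.obj (p.obj I)).obj (q.obj J)) n)) (K : C₁) (n : ℕ) (L : C₂) :
    Function.Bijective (crSum p q e₁ e₂ K (T.obj (p.obj K)) (η _) L n) := by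
  refine stepL p q e₁ e₂ K (T.obj (p.obj K)) (η _) ℓ hℓ₂ (fun J _ m => ?_) n L
  refine crSum_bijective_of_injective p q e₁ e₂ K (T.obj (p.obj K)) (η _) J m ?_
  refine stepK p q e₁ e₂ T η hη J ℓ hℓ₁ (fun I _ r => ?_) m K
  rcases Nat.eq_zero_or_pos r with rfl | hr
  · exact h0 I J
  · obtain ⟨s, rfl⟩ : ∃ s, r = s + 1 := ⟨r - 1, by omega⟩
    have hs : Subsingleton (Ext.{w} o₁ I (s + 1)) := Ext.subsingleton_of_injective _ _ _
    have hz : ∀ x : Ext.{w} o₁ I (s + 1) ⊗[ℤ] Ext.{w} o₂ J 0, x = 0 := fun x => by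
      induction x with
      | zero => rfl
      | tmul a b => rw [Subsingleton.elim a 0, TensorProduct.zero_tmul]
      | add x y hx hy => rw [hx, hy, add_zero]
    have hu := h1 I J (s + 1) hr
    exact ⟨fun x y _ => by rw [hz x, hz y], fun y => ⟨0, hu.elim _ _⟩⟩

end varK

/-- The direct sum form (shape of `EtSix.crossSum`). -/
theorem bijective_toAddMonoid {ι : Type*} [Fintype ι] [DecidableEq ι] {M : ι → Type*} [∀ i, AddCommGroup (M i)]
    {N : Type*} [AddCommGroup N] (φ : ∀ i, M i →+ N)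
    (h : Function.Bijective (fun t : (∀ i, M i) => ∑ i, φ i (t i))) :
    Function.Bijective (DirectSum.toAddMonoid φ) := by
  have h1 : ∀ t, DirectSum.toAddMonoid φ t = ∑ i, φ i (t i) := fun t => by
    induction t using DirectSum.induction_on with
    | zero => simp
    | of i x =>
      rw [DirectSum.toAddMonoid_of, Finset.sum_eq_single i]
      · rw [DirectSum.of_eq_same]
      · intro j _ hj
        rw [DirectSum.of_eq_of_ne _ _ _ hj, map_zero]
      · simp
    | add x y hx hy => simp only [map_add, hx, hy, DirectSum.add_apply, Finset.sum_add_distrib]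
  have h2 : ⇑(DirectSum.toAddMonoid φ) = (fun t : (∀ i, M i) => ∑ i, φ i (t i)) ∘ (DirectSum.addEquivProd M) := by
    funext t
    exact h1 t
  rw [h2]
  exact h.comp (DirectSum.addEquivProd M).bijective

end Cross

end Groth.Agent.Etsix.H994.AbsCross
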