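import Mathlib.Algebra.Module.ZMod
import Mathlib.LinearAlgebra.TensorProduct.Basic
import Mathlib.LinearAlgebra.Basis.VectorSpace
import Mathlib.Algebra.Field.ZMod
import Mathlib.Algebra.Module.Equiv.Basic

/-!
# Bijectivity of a pairing on `A ⊗_ℤ B` for `B` killed by a prime, in terms of linearly independent families
-/

set_option autoImplicit false

open TensorProduct

namespace Groth.Agent.Etsix.H994.TensorBasis

variable (ℓ : ℕ) [Fact ℓ.Prime] {A B N : Type*} [AddCommGroup A] [AddCommGroup B] [AddCommGroup N]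

/-- The homomorphism on the tensor product attached to a biadditive map. -/
noncomputable def liftHom (c : A →+ B →+ N) : A ⊗[ℤ] B →+ N :=
  (TensorProduct.lift ((addMonoidHomLequivInt (A := B) (B := N) ℤ).toLinearMap ∘ₗ c.toIntLinearMap)).toAddMonoidHom

@[simp] theorem liftHom_tmul (c : A →+ B →+ N) (a : A) (b : B) : liftHom c (a ⊗ₜ b) = c a b := rfl

theorem exists_basis_repr [Module (ZMod ℓ) B] {ι : Type*} (β : Module.Basis ι (ZMod ℓ) B) (t : A ⊗[ℤ] B) :
    ∃ f : ι →₀ A, t = f.sum (fun i a => a ⊗ₜ[ℤ] β i) := by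
  classical
  induction t with
  | zero => exact ⟨0, by simp⟩
  | tmul a b =>
    refine ⟨(β.repr b).mapRange (fun r => (r.val : ℕ) • a) (by simp), ?_⟩
    rw [Finsupp.sum_mapRange_index (by simp)]
    conv_lhs => rw [← β.linearCombination_repr b, Finsupp.linearCombination_apply]
    rw [Finsupp.sum, Finsupp.sum, TensorProduct.tmul_sum]
    refine Finset.sum_congr rfl (fun i _ => ?_)
    have h : (β.repr b i) • β i = ((β.repr b i).val : ℕ) • β i := by
      conv_lhs => rw [← ZMod.natCast_zmod_val (β.repr b i)]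
      rw [Nat.cast_smul_eq_nsmul]
    rw [h, TensorProduct.smul_tmul]
  | add x y hx hy =>
    obtain ⟨f, rfl⟩ := hx
    obtain ⟨g, rfl⟩ := hy
    refine ⟨f + g, ?_⟩
    rw [Finsupp.sum_add_index' (by simp) (by simp [TensorProduct.add_tmul])]

theorem bijective_aux [Module (ZMod ℓ) B] {ι : Type*} (β : Module.Basis ι (ZMod ℓ) B) (c : A →+ B →+ N)
    (inj : ∀ (m : ℕ) (b : Fin m → B) (_ : ∀ n : Fin m → ℤ, ∑ j, n j • b j = 0 → ∀ j, (ℓ : ℤ) ∣ n j)
      (a : Fin m → A), ∑ j, c (a j) (b j) = 0 → ∀ j, a j = 0)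
    (surj : ∀ z : N, ∃ (m : ℕ) (a : Fin m → A) (b : Fin m → B), z = ∑ j, c (a j) (b j)) :
    Function.Bijective (liftHom c) := by
  constructor
  · rw [injective_iff_map_eq_zero]
    intro t ht
    obtain ⟨f, rfl⟩ := exists_basis_repr ℓ β t
    let e := f.support.equivFin
    have h1 := inj f.support.card (fun j => β (e.symm j)) (fun n hn j => ?_) (fun j => f (e.symm j)) ?_
    · have h2 : f = 0 := by
        ext i
        by_contra hi
        have h3 := h1 (e ⟨i, Finsupp.mem_support_iff.2 hi⟩)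
        rw [Equiv.symm_apply_apply] at h3
        exact hi h3
      rw [h2]
      simp
    · have hli : LinearIndependent (ZMod ℓ) (fun j => β (e.symm j)) :=
        β.linearIndependent.comp _ (Subtype.val_injective.comp e.symm.injective)
      rw [Fintype.linearIndependent_iff] at hli
      have h3 := hli (fun j => (n j : ZMod ℓ)) (by
        rw [← hn]
        refine Finset.sum_congr rfl (fun j _ => ?_)
        rw [Int.cast_smul_eq_zsmul]) j
      exact (ZMod.intCast_zmod_eq_zero_iff_dvd _ _).1 h3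
    · rw [← ht, Finsupp.sum, map_sum]
      simp only [liftHom_tmul]
      rw [← Finset.sum_coe_sort f.support]
      exact (Equiv.sum_comp e.symm (fun i : f.support => c (f i) (β i)))
  · intro z
    obtain ⟨m, a, b, rfl⟩ := surj z
    exact ⟨∑ j, a j ⊗ₜ b j, by rw [map_sum]; rfl⟩

/-- Bijectivity of `A ⊗_ℤ B → N` from independence and generation. -/
theorem bijective_liftHom (hB : ∀ b : B, ℓ • b = 0) (c : A →+ B →+ N)
    (inj : ∀ (m : ℕ) (b : Fin m → B) (_ : ∀ n : Fin m → ℤ, ∑ j, n j • b j = 0 → ∀ j, (ℓ : ℤ) ∣ n j)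
      (a : Fin m → A), ∑ j, c (a j) (b j) = 0 → ∀ j, a j = 0)
    (surj : ∀ z : N, ∃ (m : ℕ) (a : Fin m → A) (b : Fin m → B), z = ∑ j, c (a j) (b j)) :
    Function.Bijective (liftHom c) := by
  let _ := AddCommGroup.zmodModule hB
  exact bijective_aux ℓ (Module.Basis.ofVectorSpace (ZMod ℓ) B) c inj surj

end Groth.Agent.Etsix.H994.TensorBasis
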