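import Groth.Agent.Etsix.H994.CrossFun
import Groth.Agent.Etsix.H994.AbsCross
import Groth.Agent.Etsix.H994.TensorBasis

/-!
# Reduction of the Kuenneth statement to the two geometric inputs (b0), (b1)
-/

set_option autoImplicit false

universe u

open CategoryTheory CategoryTheory.Limits AlgebraicGeometry Opposite MonoidalCategory TensorProduct
attribute [local instance] HasDerivedCategory.standard

namespace Groth.Agent.Etsix.H994.Reduce

open CrossFun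

variable (ℓ : ℕ) [Fact ℓ.Prime]

omit [Fact ℓ.Prime] in
/-- Classes are killed by `ℓ`. -/
theorem smul_eq_zero' {C : Type*} [Category* C] [Abelian C] [HasExt.{u + 1} C] (hC : ∀ L : C, ℓ • 𝟙 L = 0)
    {o : C} (L : C) (n : ℕ) (x : Abelian.Ext.{u + 1} o L n) : ℓ • x = 0 := by
  have h : ℓ • x = x.comp (Abelian.Ext.mk₀ (ℓ • 𝟙 L)) (add_zero n) := by
    have h1 : (Abelian.Ext.mk₀ (ℓ • 𝟙 L) : Abelian.Ext.{u + 1} L L 0) = ℓ • Abelian.Ext.mk₀ (𝟙 L) :=
      map_nsmul (Abelian.Ext.addEquiv₀ (X := L) (Y := L)).symm ℓ (𝟙 L)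
    rw [h1]
    have h2 := map_nsmul ((Abelian.Ext.bilinearComp o L L n 0 n (add_zero n)) x) ℓ (Abelian.Ext.mk₀ (𝟙 L))
    refine (Eq.symm ?_)
    refine h2.trans ?_
    congr 1
    exact Abelian.Ext.comp_mk₀_id x
  rw [h, hC, Abelian.Ext.mk₀_zero, Abelian.Ext.comp_zero]

theorem smul_id_eq_zero (X : Scheme.{u}) (F : EtModW.Mod (ULift.{u + 1} (ZMod ℓ)) X) : ℓ • 𝟙 F = 0 := by
  ext V x
  have h1 : ((ℓ • 𝟙 F : F ⟶ F).hom.app V).hom x = ℓ • x := by
    have h4 := (sheafToPresheaf X.smallEtaleTopology (ModuleCat.{u + 1} (ULift.{u + 1} (ZMod ℓ))) ⋙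
      (evaluation _ _).obj V).map_nsmul (f := 𝟙 F) (n := ℓ)
    have h5 : (ℓ • 𝟙 F : F ⟶ F).hom.app V = ℓ • 𝟙 (F.obj.obj V) := by
      refine h4.trans ?_
      congr 1
    rw [h5, ModuleCat.hom_nsmul]
    rfl
  have h2 : ℓ • x = ((ℓ : ULift.{u + 1} (ZMod ℓ)) • x : F.obj.obj V) := (Nat.cast_smul_eq_nsmul _ _ _).symm
  have h3 : (ℓ : ULift.{u + 1} (ZMod ℓ)) = 0 := by
    ext
    simp
  rw [h3, zero_smul] at h2
  exact h1.trans h2

variable {X Y S : Scheme.{u}} (f : X ⟶ S) (g : Y ⟶ S)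

/-- The abstract reduction applied to étale sheaves (no `HMod` in the statement). -/
theorem main_ext
    (h0 : ∀ (I : EtModW.Mod (ULift.{u + 1} (ZMod ℓ)) X) (J : EtModW.Mod (ULift.{u + 1} (ZMod ℓ)) Y)
      [Injective I] [Injective J],
      Function.Bijective (AbsCross.crT (EtModW.pull (ULift.{u + 1} (ZMod ℓ)) (pullback.fst f g))
        (EtModW.pull (ULift.{u + 1} (ZMod ℓ)) (pullback.snd f g))
        (EtSix.pullConstΛ (ULift.{u + 1} (ZMod ℓ)) (pullback.fst f g)).inv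
        (EtSix.pullConstΛ (ULift.{u + 1} (ZMod ℓ)) (pullback.snd f g)).inv I
        ((EtModD.tensorBi (ULift.{u + 1} (ZMod ℓ)) (pullback f g)).obj
          ((EtModW.pull (ULift.{u + 1} (ZMod ℓ)) (pullback.fst f g)).obj I)) (EtSix.unitMap _) J 0 0 (add_zero 0)))
    (h1 : ∀ (I : EtModW.Mod (ULift.{u + 1} (ZMod ℓ)) X) (J : EtModW.Mod (ULift.{u + 1} (ZMod ℓ)) Y)
      [Injective I] [Injective J] (n : ℕ), 0 < n →
      Subsingleton (Abelian.Ext.{u + 1} (EtSix.constΛ (ULift.{u + 1} (ZMod ℓ)) (pullback f g))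
        (EtSix.boxtimes (ULift.{u + 1} (ZMod ℓ)) f g I J) n))
    (K : EtModW.Mod (ULift.{u + 1} (ZMod ℓ)) X) (n : ℕ) (L : EtModW.Mod (ULift.{u + 1} (ZMod ℓ)) Y) :
    Function.Bijective (AbsCross.crSum (EtModW.pull (ULift.{u + 1} (ZMod ℓ)) (pullback.fst f g))
        (EtModW.pull (ULift.{u + 1} (ZMod ℓ)) (pullback.snd f g))
        (EtSix.pullConstΛ (ULift.{u + 1} (ZMod ℓ)) (pullback.fst f g)).inv
        (EtSix.pullConstΛ (ULift.{u + 1} (ZMod ℓ)) (pullback.snd f g)).inv K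
        ((EtModD.tensorBi (ULift.{u + 1} (ZMod ℓ)) (pullback f g)).obj
          ((EtModW.pull (ULift.{u + 1} (ZMod ℓ)) (pullback.fst f g)).obj K)) (EtSix.unitMap _) L n) :=
  AbsCross.main (EtModW.pull (ULift.{u + 1} (ZMod ℓ)) (pullback.fst f g))
        (EtModW.pull (ULift.{u + 1} (ZMod ℓ)) (pullback.snd f g))
        (EtSix.pullConstΛ (ULift.{u + 1} (ZMod ℓ)) (pullback.fst f g)).inv
        (EtSix.pullConstΛ (ULift.{u + 1} (ZMod ℓ)) (pullback.snd f g)).inv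
        (EtModD.tensorBi (ULift.{u + 1} (ZMod ℓ)) (pullback f g)) (fun A => EtSix.unitMap A)
        (fun φ => unitMap_naturality φ) ℓ
        (fun K n x => smul_eq_zero' ℓ (smul_id_eq_zero ℓ X) K n x)
        (fun K n x => smul_eq_zero' ℓ (smul_id_eq_zero ℓ Y) K n x) h0 h1 K n L

end Groth.Agent.Etsix.H994.Reduce
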