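import Groth.Prelude.Def_SixF2
import Groth.Agent.Sga4h.ModDTensor
import Groth.Agent.Etrest.ModCons
import Mathlib.RingTheory.Flat.CategoryTheory
import Mathlib.Algebra.Field.ZMod
import Mathlib.Algebra.Field.ULift

/-!
# Functoriality of the cross product
-/

set_option autoImplicit false

universe u

open CategoryTheory CategoryTheory.Limits AlgebraicGeometry Opposite MonoidalCategory
attribute [local instance] HasDerivedCategory.standard

namespace Groth.Agent.Etsix.H994.CrossFun

open EtSix Groth.Agent.Sga4h.ModDTensor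

section Exact

variable (Λ : Type (u + 1)) [CommRing Λ] (X : Scheme.{u})

/-- If all modules are flat then `F ⊗ -` is exact. -/
theorem preservesFiniteLimits_tensorBi_obj (hΛ : ∀ (M : Type (u + 1)) [AddCommGroup M] [Module Λ M], Module.Flat Λ M)
    (F : EtModW.Mod Λ X) : PreservesFiniteLimits ((EtModD.tensorBi Λ X).obj F) := by
  have h0 : PreservesFiniteLimits (tensorLeft ((inc Λ X).obj F : PMod Λ X)) :=
    { preservesFiniteLimits := fun J _ _ => preservesLimitsOfShape_of_evaluation _ _ (fun V => by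
        have := hΛ (((inc Λ X).obj F : PMod Λ X).obj V)
        have h : PreservesFiniteLimits (tensorLeft (((inc Λ X).obj F : PMod Λ X).obj V) : ModuleCat.{u + 1} Λ ⥤ _) :=
          inferInstance
        exact inferInstanceAs (PreservesLimitsOfShape J ((evaluation _ _).obj V ⋙
          tensorLeft (((inc Λ X).obj F : PMod Λ X).obj V)))) }
  exact inferInstanceAs (PreservesFiniteLimits (inc Λ X ⋙ tensorLeft ((inc Λ X).obj F : PMod Λ X) ⋙ sh Λ X))

instance preservesFiniteColimits_tensorBi_obj (F : EtModW.Mod Λ X) :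
    PreservesFiniteColimits ((EtModD.tensorBi Λ X).obj F) := by
  have h : PreservesColimitsOfSize.{0, 0} ((EtModD.tensorBi Λ X).obj F) :=
    (Adjunction.ofIsLeftAdjoint ((EtModD.tensorBi Λ X).obj F)).leftAdjoint_preservesColimits
  exact PreservesColimitsOfSize.preservesFiniteColimits.{0, 0} _

instance preservesFiniteColimits_tensorBi_flip_obj (F : EtModW.Mod Λ X) :
    PreservesFiniteColimits ((EtModD.tensorBi Λ X).flip.obj F) := by
  have h : PreservesColimitsOfSize.{0, 0} ((EtModD.tensorBi Λ X).flip.obj F) :=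
    (Adjunction.ofIsLeftAdjoint ((EtModD.tensorBi Λ X).flip.obj F)).leftAdjoint_preservesColimits
  exact PreservesColimitsOfSize.preservesFiniteColimits.{0, 0} _

instance additive_tensorBi_flip_obj (F : EtModW.Mod Λ X) : ((EtModD.tensorBi Λ X).flip.obj F).Additive where
  map_add {K K' a b} := by
    have h := (EtModD.tensorBi Λ X).map_add (f := a) (g := b)
    exact congrArg (fun t => NatTrans.app t F) h

end Exact

section Field

variable (ℓ : ℕ) [Fact ℓ.Prime] (X : Scheme.{u})

/-- Modules over `ULift (ZMod ℓ)` are flat. -/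
theorem flat_zmod (M : Type (u + 1)) [AddCommGroup M] [Module (ULift.{u + 1} (ZMod ℓ)) M] :
    Module.Flat (ULift.{u + 1} (ZMod ℓ)) M := by
  have h : IsField (ULift.{u + 1} (ZMod ℓ)) :=
    MulEquiv.isField (Field.toIsField (ZMod ℓ)) (ULift.ringEquiv (R := ZMod ℓ)).toMulEquiv
  let _ := h.toField
  exact @Module.Flat.of_free (ULift.{u + 1} (ZMod ℓ)) M _ _ _ (Module.Free.of_divisionRing _ _)

instance preservesFiniteLimits_tensorBi_obj_zmod (F : EtModW.Mod (ULift.{u + 1} (ZMod ℓ)) X) :
    PreservesFiniteLimits ((EtModD.tensorBi (ULift.{u + 1} (ZMod ℓ)) X).obj F) :=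
  preservesFiniteLimits_tensorBi_obj _ _ (fun M _ _ => flat_zmod ℓ M) F

instance preservesFiniteLimits_tensorBi_flip_obj_zmod (F : EtModW.Mod (ULift.{u + 1} (ZMod ℓ)) X) :
    PreservesFiniteLimits ((EtModD.tensorBi (ULift.{u + 1} (ZMod ℓ)) X).flip.obj F) :=
  preservesFiniteLimits_of_natIso (flipObjIso F).symm

end Field

section Comp

variable {Λ : Type (u + 1)} [CommRing Λ]

section Nat

theorem unit_nat {M : Type*} [Category M] [MonoidalCategory M] {P P' Q : M} (u : 𝟙_ M ⟶ Q) (φ : P ⟶ P') :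
    φ ≫ (ρ_ P').inv ≫ P' ◁ u = ((ρ_ P).inv ≫ P ◁ u) ≫ φ ▷ Q := by
  rw [Category.assoc, whisker_exchange, rightUnitor_inv_naturality_assoc]

variable {X : Scheme.{u}}

theorem unitMapPre_naturality {A A' : EtModW.Mod Λ X} (φ : A ⟶ A') :
    φ.hom ≫ unitMapPre Λ A' = unitMapPre Λ A ≫ φ.hom ▷ (constΛ Λ X).obj :=
  unit_nat (M := X.Etaleᵒᵖ ⥤ ModuleCat.{u + 1} Λ)
    (toSheafify X.smallEtaleTopology ((Functor.const (X.Etaleᵒᵖ)).obj (ModuleCat.of Λ Λ))) φ.hom

theorem unitMap_naturality {A A' : EtModW.Mod Λ X} (φ : A ⟶ A') :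
    φ ≫ unitMap A' = unitMap A ≫ ((EtModD.tensorBi Λ X).map φ).app (constΛ Λ X) := by
  ext : 1
  have h1 := toSheafify_naturality X.smallEtaleTopology (φ.hom ▷ (constΛ Λ X).obj)
  have h2 := unitMapPre_naturality φ
  refine (Category.assoc φ.hom (unitMapPre Λ A') _).symm.trans ?_
  refine (congrArg (· ≫ toSheafify X.smallEtaleTopology (A'.obj ⊗ (constΛ Λ X).obj)) h2).trans ?_
  refine (Category.assoc (unitMapPre Λ A) _ _).trans ?_
  refine (congrArg (unitMapPre Λ A ≫ ·) h1).trans ?_
  exact (Category.assoc (unitMapPre Λ A) _ _).symm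

end Nat

end Comp

end Groth.Agent.Etsix.H994.CrossFun
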