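import Groth.Prelude.Def_SixF2

/-!
# A folded `HasExt` instance for sheaves of modules (kernel speed)
-/

set_option autoImplicit false

universe u

open CategoryTheory CategoryTheory.Limits AlgebraicGeometry

namespace Groth.Agent.Etsix.H994.ExtInst

/-- `HasExt` for sheaves of modules, with its folded type: the kernel need not unfold `HasExt`. -/
theorem hasExt_mod (Λ : Type (u + 1)) [CommRing Λ] (X : Scheme.{u}) : HasExt.{u + 1} (EtModW.Mod Λ X) := inferInstance

end Groth.Agent.Etsix.H994.ExtInst
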