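import Groth.Agent.Etsix.H994.Vanish
import Groth.Agent.Etsix.H994.ExtInst
import Groth.Agent.Etrest.HPush
import Groth.Agent.EtSix.H42.ModToH
import Groth.Agent.Etbase.ExactSections

/-!
# Vanishing of `H^n(X × Y, I ⊠ J)` for `n > 0` and `I`, `J` injective, from the direct image along `pr₂`
-/

set_option autoImplicit false

universe u

open CategoryTheory CategoryTheory.Limits AlgebraicGeometry Opposite

namespace Groth.Agent.Etsix.H994.VanH

open Groth.Agent.Etrest.ModAb

/-- Higher cohomology of the spectrum of a separably closed field vanishes. -/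
theorem subsingleton_H_point (k : Type u) [Field k] [IsSepClosed k] (F : EtCoh.Ab (Spec (CommRingCat.of k)))
    (p : ℕ) (hp : 1 ≤ p) : Subsingleton (EtCoh.H (Spec (CommRingCat.of k)) F p) := by
  refine Groth.Agent.Etbase.ExactSections.H_subsingleton_of_sieve _ (fun S hS => ?_) F p hp
  obtain ⟨Y, f, hf, y, -⟩ := (Scheme.pointSmallEtale
    (EtpbcB.SepClosedPoint.pt k)).jointly_surjective S hS (EtpbcB.SepClosedPoint.elt k)
  obtain ⟨s, -⟩ := EtpbcB.SepClosedPoint.exists_section k Y y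
  have : s ≫ f = 𝟙 _ := EtpbcB.SepClosedPoint.hom_top_unique _ _
  rw [← this]
  exact S.downward_closed hf s

variable {Λ : Type (u + 1)} [CommRing Λ] {k : Type u} [Field k] [IsSepClosed k] {X Y : Scheme.{u}}

/-- Direct sums of copies of an injective sheaf of modules are acyclic on a quasi-compact and quasi-separated scheme
over a separably closed field. -/
theorem subsingleton_H_sigma (g : Y ⟶ Spec (CommRingCat.of k)) [QuasiCompact g] [QuasiSeparated g]
    (J : EtModW.Mod Λ Y) [Injective J] (B : Type (u + 1)) [HasCoproduct fun _ : B => J] (n : ℕ) (hn : 0 < n) :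
    Subsingleton (EtCoh.H Y ((ab Λ Y).obj (∐ fun _ : B => J)) n) := by
  obtain ⟨e⟩ := Etrest.HPush.nonempty_HPushEquiv g ((ab Λ Y).obj (∐ fun _ : B => J))
    (fun q hq => Vanish.isZero_Rpush_sigma g J B q hq) n
  have := subsingleton_H_point k ((EtCoh.push g).obj ((ab Λ Y).obj (∐ fun _ : B => J))) n hn
  exact e.toEquiv.subsingleton

theorem subsingleton_H_of_iso {F G : EtCoh.Ab Y} (e : F ≅ G) (n : ℕ) [h : Subsingleton (EtCoh.H Y G n)] :
    Subsingleton (EtCoh.H Y F n) := by
  constructor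
  intro a b
  have h1 : ∀ x : EtCoh.H Y F n, x = (x.comp (Abelian.Ext.mk₀ e.hom) (add_zero n)).comp
      (Abelian.Ext.mk₀ e.inv) (add_zero n) := fun x => by
    rw [Abelian.Ext.comp_assoc_of_third_deg_zero, Abelian.Ext.mk₀_comp_mk₀, e.hom_inv_id, Abelian.Ext.comp_mk₀_id]
  rw [h1 a, h1 b]
  congr 1
  exact h.elim _ _

/-- Descent of the vanishing along `q : P ⟶ Y`. -/
theorem subsingleton_H {P : Scheme.{u}} (q : P ⟶ Y) (g : Y ⟶ Spec (CommRingCat.of k)) [QuasiCompact g]
    [QuasiSeparated g] (M : EtModW.Mod Λ P)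
    (hR : ∀ j : ℕ, 0 < j → IsZero ((EtCoh.Rpush q j).obj ((ab Λ P).obj M)))
    (J : EtModW.Mod Λ Y) [Injective J] (B : Type (u + 1)) [HasCoproduct fun _ : B => J]
    (e : (EtModW.push Λ q).obj M ≅ ∐ fun _ : B => J) (n : ℕ) (hn : 0 < n) :
    Subsingleton (EtCoh.H P ((ab Λ P).obj M) n) := by
  obtain ⟨e1⟩ := Etrest.HPush.nonempty_HPushEquiv q ((ab Λ P).obj M) hR n
  have h1 := subsingleton_H_sigma g J B n hn
  have h2 : Subsingleton (EtCoh.H Y ((EtCoh.push q).obj ((ab Λ P).obj M)) n) :=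
    subsingleton_H_of_iso ((pushIso Λ q).symm.app M ≪≫ (ab Λ Y).mapIso e) n
  exact e1.toEquiv.subsingleton

attribute [local instance 10000] Groth.Agent.Etsix.H994.ExtInst.hasExt_mod

/-- The same for `Ext` groups of sheaves of modules. -/
theorem subsingleton_ext {P : Scheme.{u}} (q : P ⟶ Y) (g : Y ⟶ Spec (CommRingCat.of k)) [QuasiCompact g]
    [QuasiSeparated g] (M : EtModW.Mod Λ P)
    (hR : ∀ j : ℕ, 0 < j → IsZero ((EtCoh.Rpush q j).obj ((ab Λ P).obj M)))
    (J : EtModW.Mod Λ Y) [Injective J] (B : Type (u + 1)) [HasCoproduct fun _ : B => J]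
    (e : (EtModW.push Λ q).obj M ≅ ∐ fun _ : B => J) (n : ℕ) (hn : 0 < n) :
    Subsingleton (Abelian.Ext.{u + 1} (EtSix.constΛ Λ P) M n) := by
  have h1 := subsingleton_H q g M hR J B e n hn
  have h2 := EtSix.H42.ModToH.bijective_extMap_intToConst Λ M n
  exact h2.1.subsingleton

end Groth.Agent.Etsix.H994.VanH
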