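import Groth.Agent.Etsix.H994.CrossSum
import Groth.Agent.Etsix.H994.VanH

/-!
# Künneth: assembly of the geometric inputs (general coefficient ring)
-/

set_option autoImplicit false

universe u

open CategoryTheory CategoryTheory.Limits AlgebraicGeometry Opposite MonoidalCategory TensorProduct
attribute [local instance] HasDerivedCategory.standard
attribute [local instance 10000] Groth.Agent.Etsix.H994.ExtInst.hasExt_mod

namespace Groth.Agent.Etsix.H994.Assemble

open CrossFun

variable (Λ : Type (u + 1)) [CommRing Λ] {k : Type u} [Field k] [IsAlgClosed k] {X Y : Scheme.{u}}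
  (f : X ⟶ Spec (CommRingCat.of k)) [IsProper f] (g : Y ⟶ Spec (CommRingCat.of k)) [IsProper g]

/-- Vanishing in positive degrees. -/
theorem h1 (pbc : Vanish.PBC.{u}) (hfree : ∀ (M : Type (u + 1)) [AddCommGroup M] [Module Λ M], Module.Free Λ M)
    {ℓ : ℕ} (hℓ : 0 < ℓ) (hΛ : (ℓ : Λ) = 0)
    (hpush : ∀ (K : EtModW.Mod Λ X) (L : EtModW.Mod Λ Y), ∃ T : Type (u + 1),
      Nonempty ((EtModW.push Λ (pullback.snd f g)).obj (EtSix.boxtimes Λ f g K L) ≅ ∐ fun _ : T => L))
    (I : EtModW.Mod Λ X) (J : EtModW.Mod Λ Y) [Injective I] [Injective J] (n : ℕ) (hn : 0 < n) :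
    Subsingleton (Abelian.Ext.{u + 1} (EtSix.constΛ Λ (pullback f g)) (EtSix.boxtimes Λ f g I J) n) := by
  obtain ⟨T, ⟨e⟩⟩ := hpush I J
  exact VanH.subsingleton_ext (pullback.snd f g) g (EtSix.boxtimes Λ f g I J)
    (fun j hj => Vanish.isZero_Rpush f g pbc hfree hℓ hΛ I J j hj) J T e n hn

/-- Künneth from the degree zero statement and the direct image. -/
theorem main (pbc : Vanish.PBC.{u}) (hfree : ∀ (M : Type (u + 1)) [AddCommGroup M] [Module Λ M], Module.Free Λ M)
    (ℓ : ℕ) [Fact ℓ.Prime] (hΛ : (ℓ : Λ) = 0)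
    (hpush : ∀ (K : EtModW.Mod Λ X) (L : EtModW.Mod Λ Y), ∃ T : Type (u + 1),
      Nonempty ((EtModW.push Λ (pullback.snd f g)).obj (EtSix.boxtimes Λ f g K L) ≅ ∐ fun _ : T => L))
    [hPL : ∀ F : EtModW.Mod Λ (pullback f g), PreservesFiniteLimits ((EtModD.tensorBi Λ (pullback f g)).obj F)]
    (h0 : ∀ (I : EtModW.Mod Λ X) (J : EtModW.Mod Λ Y)
      [Injective I] [Injective J],
      Function.Bijective (AbsCross.crT (EtModW.pull Λ (pullback.fst f g))
        (EtModW.pull Λ (pullback.snd f g))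
        (EtSix.pullConstΛ Λ (pullback.fst f g)).inv
        (EtSix.pullConstΛ Λ (pullback.snd f g)).inv I
        ((EtModD.tensorBi Λ (pullback f g)).obj
          ((EtModW.pull Λ (pullback.fst f g)).obj I)) (EtSix.unitMap _) J 0 0 (add_zero 0)))
    (K : EtModW.Mod Λ X) (L : EtModW.Mod Λ Y)
    [PreservesFiniteLimits (EtModW.pull Λ (pullback.fst f g))]
    [PreservesFiniteLimits (EtModW.pull Λ (pullback.snd f g))]
    [PreservesFiniteLimits ((EtModD.tensorBi Λ (pullback f g)).obj ((EtModW.pull Λ (pullback.fst f g)).obj K))]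
    [PreservesFiniteColimits ((EtModD.tensorBi Λ (pullback f g)).obj ((EtModW.pull Λ (pullback.fst f g)).obj K))]
    (n : ℕ) :
    Function.Bijective (EtSix.crossSum Λ f g K L n) :=
  have hflat : ∀ (M : Type (u + 1)) [AddCommGroup M] [Module Λ M], Module.Flat Λ M := fun M _ _ =>
    have := hfree M
    inferInstance
  CrossSum.crossSum_bijective Λ f g K L n
    (ReduceGen.main_ext Λ f g ℓ hΛ (fun M _ _ => hflat M) (fun I J _ _ => h0 I J)
      (fun I J _ _ n hn => h1 Λ f g pbc (fun M _ _ => hfree M) (Fact.out : ℓ.Prime).pos hΛ hpush I J n hn) K n L)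

end Groth.Agent.Etsix.H994.Assemble
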