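import Groth.Agent.Etsix.H994.ReduceGen

/-!
# The frozen `EtSix.crossSum` is the abstract one (general coefficient ring)
-/

set_option autoImplicit false

universe u

open CategoryTheory CategoryTheory.Limits AlgebraicGeometry Opposite MonoidalCategory TensorProduct
attribute [local instance] HasDerivedCategory.standard
attribute [local instance 10000] Groth.Agent.Etsix.H994.ExtInst.hasExt_mod

namespace Groth.Agent.Etsix.H994.CrossSum

open CrossFun

variable (Λ : Type (u + 1)) [CommRing Λ] {X Y S : Scheme.{u}} (f : X ⟶ S) (g : Y ⟶ S)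

/-- From the abstract sum of cross products to `EtSix.crossSum`. -/
theorem crossSum_bijective
    (K : EtModW.Mod Λ X) (L : EtModW.Mod Λ Y)
    [PreservesFiniteLimits (EtModW.pull Λ (pullback.fst f g))]
    [PreservesFiniteLimits (EtModW.pull Λ (pullback.snd f g))]
    [PreservesFiniteLimits ((EtModD.tensorBi Λ (pullback f g)).obj ((EtModW.pull Λ (pullback.fst f g)).obj K))]
    [PreservesFiniteColimits ((EtModD.tensorBi Λ (pullback f g)).obj ((EtModW.pull Λ (pullback.fst f g)).obj K))]
    (n : ℕ)
    (h : Function.Bijective (AbsCross.crSum (EtModW.pull Λ (pullback.fst f g))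
        (EtModW.pull Λ (pullback.snd f g))
        (EtSix.pullConstΛ Λ (pullback.fst f g)).inv
        (EtSix.pullConstΛ Λ (pullback.snd f g)).inv K
        ((EtModD.tensorBi Λ (pullback f g)).obj
          ((EtModW.pull Λ (pullback.fst f g)).obj K)) (EtSix.unitMap _) L n)) :
    Function.Bijective (EtSix.crossSum Λ f g K L n) :=
  AbsCross.bijective_toAddMonoid _ h

end Groth.Agent.Etsix.H994.CrossSum
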