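import Mathlib.CategoryTheory.Preadditive.Injective.Basic
import Mathlib.CategoryTheory.Abelian.Basic
import Mathlib.Algebra.Homology.ShortComplex.ShortExact
import Mathlib.Algebra.Homology.ShortComplex.Abelian

/-!
# Dimension shifting for a morphism of (elementary) cohomological delta functors

`bijective`: if `c : T → U` is a morphism of delta functors given by bare families of groups and maps, which is
bijective on injective objects, then it is bijective.
-/

set_option autoImplicit false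

universe w w' v u

open CategoryTheory CategoryTheory.Limits

namespace Groth.Agent.Etsix.H994.DimShift

variable {C : Type u} [Category.{v} C] [Abelian C]

/-- Bare data of a cohomological delta functor with values in abelian groups (only the properties used in dimension
shifting). -/
structure Delta (C : Type u) [Category.{v} C] [Abelian C] (T : ℕ → C → Type w) [∀ n L, AddCommGroup (T n L)] where
  map : ∀ (n : ℕ) {L L' : C}, (L ⟶ L') → (T n L →+ T n L')
  δ : ∀ (n : ℕ) (S : ShortComplex C), S.ShortExact → (T n S.X₃ →+ T (n + 1) S.X₁)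
  zero_inj : ∀ (S : ShortComplex C), S.ShortExact → ∀ t : T 0 S.X₁, map 0 S.f t = 0 → t = 0
  ex₁ : ∀ (n : ℕ) (S : ShortComplex C) (hS : S.ShortExact) (t : T (n + 1) S.X₁), map (n + 1) S.f t = 0 →
    ∃ t', δ n S hS t' = t
  ex₂ : ∀ (n : ℕ) (S : ShortComplex C), S.ShortExact → ∀ (t : T n S.X₂), map n S.g t = 0 → ∃ t', map n S.f t' = t
  ex₃ : ∀ (n : ℕ) (S : ShortComplex C) (hS : S.ShortExact) (t : T n S.X₃), δ n S hS t = 0 → ∃ t', map n S.g t' = t
  fg : ∀ (n : ℕ) (S : ShortComplex C), S.ShortExact → ∀ (t : T n S.X₁), map n S.g (map n S.f t) = 0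
  gδ : ∀ (n : ℕ) (S : ShortComplex C) (hS : S.ShortExact) (t : T n S.X₂), δ n S hS (map n S.g t) = 0

variable {T : ℕ → C → Type w} [∀ n L, AddCommGroup (T n L)] {U : ℕ → C → Type w'} [∀ n L, AddCommGroup (U n L)]

/-- Dimension shifting. -/
theorem bijective [EnoughInjectives C] (dT : Delta C T) (dU : Delta C U) (c : ∀ n L, T n L →+ U n L)
    (cnat : ∀ (n : ℕ) {L L' : C} (φ : L ⟶ L') (t : T n L), c n L' (dT.map n φ t) = dU.map n φ (c n L t))
    (cδ : ∀ (n : ℕ) (S : ShortComplex C) (hS : S.ShortExact) (t : T n S.X₃),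
      c (n + 1) S.X₁ (dT.δ n S hS t) = dU.δ n S hS (c n S.X₃ t))
    (hJ : ∀ (J : C) [Injective J] (n : ℕ), Function.Bijective (c n J)) (n : ℕ) (L : C) :
    Function.Bijective (c n L) := by
  have key : ∀ L : C, ∃ (S : ShortComplex C), S.ShortExact ∧ S.X₁ = L ∧ Injective S.X₂ := fun L => by
    refine ⟨ShortComplex.mk (Injective.ι L) (cokernel.π (Injective.ι L)) (cokernel.condition _), ?_, rfl,
      inferInstanceAs (Injective (Injective.under L))⟩
    exact ShortComplex.ShortExact.mk (ShortComplex.exact_of_g_is_cokernel _ (cokernelIsCokernel _))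
  induction n generalizing L with
  | zero =>
    have inj : ∀ L : C, Function.Injective (c 0 L) := fun L => by
      rw [injective_iff_map_eq_zero]
      intro t ht
      obtain ⟨S, hS, rfl, hinj⟩ := key L
      refine dT.zero_inj S hS t ((injective_iff_map_eq_zero _).1 (hJ S.X₂ 0).1 _ ?_)
      rw [cnat, ht, map_zero]
    refine ⟨inj L, fun u => ?_⟩
    obtain ⟨S, hS, rfl, hinj⟩ := key L
    obtain ⟨t₂, ht₂⟩ := (hJ S.X₂ 0).2 (dU.map 0 S.f u)
    obtain ⟨t₁, ht₁⟩ := dT.ex₂ 0 S hS t₂ ((injective_iff_map_eq_zero _).1 (inj S.X₃) _ (by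
      rw [cnat, ht₂, dU.fg 0 S hS]))
    refine ⟨t₁, sub_eq_zero.1 (dU.zero_inj S hS _ ?_)⟩
    rw [map_sub, ← cnat, ht₁, ht₂, sub_self]
  | succ n ih =>
    have inj : ∀ L : C, Function.Injective (c (n + 1) L) := fun L => by
      rw [injective_iff_map_eq_zero]
      intro t ht
      obtain ⟨S, hS, rfl, hinj⟩ := key L
      have h1 : dT.map (n + 1) S.f t = 0 := by
        refine (injective_iff_map_eq_zero _).1 (hJ S.X₂ (n + 1)).1 _ ?_
        rw [cnat, ht, map_zero]
      obtain ⟨t', rfl⟩ := dT.ex₁ n S hS t h1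
      rw [cδ] at ht
      obtain ⟨u, hu⟩ := dU.ex₃ n S hS _ ht
      obtain ⟨t'', rfl⟩ := (hJ S.X₂ n).2 u
      rw [← cnat] at hu
      have h2 := (ih S.X₃).1 hu
      rw [← h2, dT.gδ]
    refine ⟨inj L, fun u => ?_⟩
    obtain ⟨S, hS, rfl, hinj⟩ := key L
    obtain ⟨t₂, ht₂⟩ := (hJ S.X₂ (n + 1)).2 (dU.map (n + 1) S.f u)
    obtain ⟨t₁, ht₁⟩ := dT.ex₂ (n + 1) S hS t₂ ((injective_iff_map_eq_zero _).1 (inj S.X₃) _ (by
      rw [cnat, ht₂, dU.fg (n + 1) S hS]))
    have h3 : dU.map (n + 1) S.f (u - c (n + 1) S.X₁ t₁) = 0 := by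
      rw [map_sub, ← cnat, ht₁, ht₂, sub_self]
    obtain ⟨u₃, hu₃⟩ := dU.ex₁ n S hS _ h3
    obtain ⟨t₃, rfl⟩ := (ih S.X₃).2 u₃
    refine ⟨t₁ + dT.δ n S hS t₃, ?_⟩
    rw [map_add, cδ, hu₃]
    abel

end Groth.Agent.Etsix.H994.DimShift
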