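import Mathlib.Algebra.Module.ZMod
import Mathlib.LinearAlgebra.TensorProduct.Tower
import Mathlib.LinearAlgebra.Basis.VectorSpace
import Mathlib.Algebra.Module.Projective
import Mathlib.LinearAlgebra.Quotient.Basic
import Mathlib.Algebra.Exact.Basic
import Mathlib.Algebra.Field.ZMod

/-!
# Exact sequences of groups killed by a prime are contractible
-/

set_option autoImplicit false

open TensorProduct

namespace Groth.Agent.Etsix.H994.Homotopy

/-- An exact sequence `A → B → C` of vector spaces has a contracting homotopy. -/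
theorem exists_homotopy_field (k : Type*) [Field k] {A B C : Type*} [AddCommGroup A] [AddCommGroup B]
    [AddCommGroup C] [Module k A] [Module k B] [Module k C] (f : A →ₗ[k] B) (g : B →ₗ[k] C)
    (h : ∀ b, g b = 0 → ∃ a, f a = b) :
    ∃ (r : B →ₗ[k] A) (s : C →ₗ[k] B), ∀ b, f (r b) + s (g b) = b := by
  obtain ⟨ρ, hρ⟩ := f.rangeRestrict.exists_rightInverse_of_surjective f.range_rangeRestrict
  obtain ⟨s, hs⟩ := g.rangeRestrict.exists_rightInverse_of_surjective g.range_rangeRestrict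
  obtain ⟨e, he⟩ := (LinearMap.range g).subtype.exists_leftInverse_of_injective
    (LinearMap.ker_eq_bot.2 Subtype.val_injective)
  have hse : ∀ b, g (s (e (g b))) = g b := fun b => by
    have h1 : e (g b) = ⟨g b, b, rfl⟩ := LinearMap.congr_fun he ⟨g b, b, rfl⟩
    have h2 := LinearMap.congr_fun hs ⟨g b, b, rfl⟩
    rw [h1]
    exact congrArg Subtype.val h2
  have hk : ∀ b, b - s (e (g b)) ∈ LinearMap.range f := fun b => by
    obtain ⟨a, ha⟩ := h (b - s (e (g b))) (by rw [map_sub, hse, sub_self])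
    exact ⟨a, ha⟩
  refine ⟨ρ ∘ₗ LinearMap.codRestrict (LinearMap.range f) (LinearMap.id - s ∘ₗ e ∘ₗ g) hk, s ∘ₗ e, fun b => ?_⟩
  have h3 := congrArg Subtype.val (LinearMap.congr_fun hρ (⟨b - s (e (g b)), hk b⟩ : LinearMap.range f))
  have h4 : f (ρ (⟨b - s (e (g b)), hk b⟩ : LinearMap.range f)) = b - s (e (g b)) := h3
  have h5 : (LinearMap.codRestrict (LinearMap.range f) (LinearMap.id - s ∘ₗ e ∘ₗ g) hk) b =
      ⟨b - s (e (g b)), hk b⟩ := rfl
  rw [LinearMap.comp_apply, h5, h4, LinearMap.comp_apply]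
  abel

/-- An exact sequence `A → B → C` of groups killed by a prime `ℓ` has a contracting homotopy. -/
theorem exists_homotopy (ℓ : ℕ) [Fact ℓ.Prime] {A B C : Type*} [AddCommGroup A] [AddCommGroup B]
    [AddCommGroup C] (hA : ∀ a : A, ℓ • a = 0) (hB : ∀ a : B, ℓ • a = 0) (hC : ∀ a : C, ℓ • a = 0)
    (f : A →+ B) (g : B →+ C) (h : ∀ b, g b = 0 → ∃ a, f a = b) :
    ∃ (r : B →+ A) (s : C →+ B), ∀ b, f (r b) + s (g b) = b := by
  let _ := AddCommGroup.zmodModule hA
  let _ := AddCommGroup.zmodModule hB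
  let _ := AddCommGroup.zmodModule hC
  obtain ⟨r, s, hrs⟩ := exists_homotopy_field (ZMod ℓ) (f.toZModLinearMap ℓ) (g.toZModLinearMap ℓ) h
  exact ⟨r.toAddMonoidHom, s.toAddMonoidHom, hrs⟩

/-- `H ⊗_ℤ f` as a homomorphism of groups. -/
noncomputable def tm (H : Type*) [AddCommGroup H] {A B : Type*} [AddCommGroup A] [AddCommGroup B] (f : A →+ B) :
    H ⊗[ℤ] A →+ H ⊗[ℤ] B :=
  (LinearMap.lTensor H f.toIntLinearMap).toAddMonoidHom

@[simp] theorem tm_tmul (H : Type*) [AddCommGroup H] {A B : Type*} [AddCommGroup A] [AddCommGroup B]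
    (f : A →+ B) (x : H) (a : A) : tm H f (x ⊗ₜ a) = x ⊗ₜ f a := rfl

theorem tm_comp (H : Type*) [AddCommGroup H] {A B C : Type*} [AddCommGroup A] [AddCommGroup B] [AddCommGroup C]
    (f : A →+ B) (g : B →+ C) (t : H ⊗[ℤ] A) : tm H g (tm H f t) = tm H (g.comp f) t := by
  induction t with
  | zero => simp
  | tmul x a => simp
  | add x y hx hy => simp only [map_add, hx, hy]

theorem tm_add_apply (H : Type*) [AddCommGroup H] {A B : Type*} [AddCommGroup A] [AddCommGroup B]
    (f g : A →+ B) (t : H ⊗[ℤ] A) : tm H (f + g) t = tm H f t + tm H g t := by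
  induction t with
  | zero => simp
  | tmul x a => simp [TensorProduct.tmul_add]
  | add x y hx hy => simp only [map_add, hx, hy]; abel

theorem tm_eq_id (H : Type*) [AddCommGroup H] {A : Type*} [AddCommGroup A] (f : A →+ A) (hf : ∀ a, f a = a)
    (t : H ⊗[ℤ] A) : tm H f t = t := by
  induction t with
  | zero => simp
  | tmul x a => simp [hf]
  | add x y hx hy => simp only [map_add, hx, hy]

theorem tm_eq_zero (H : Type*) [AddCommGroup H] {A B : Type*} [AddCommGroup A] [AddCommGroup B]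
    (f : A →+ B) (hf : ∀ a, f a = 0) (t : H ⊗[ℤ] A) : tm H f t = 0 := by
  induction t with
  | zero => simp
  | tmul x a => simp [hf]
  | add x y hx hy => simp only [map_add, hx, hy, add_zero]

/-- Exactness of `H ⊗_ℤ -` on groups killed by `ℓ`, in the form of a homotopy. -/
theorem tm_homotopy (H : Type*) [AddCommGroup H] {A B C : Type*} [AddCommGroup A] [AddCommGroup B]
    [AddCommGroup C] (f : A →+ B) (g : B →+ C) (r : B →+ A) (s : C →+ B) (h : ∀ b, f (r b) + s (g b) = b)
    (t : H ⊗[ℤ] B) : tm H f (tm H r t) + tm H s (tm H g t) = t := by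
  rw [tm_comp, tm_comp, ← tm_add_apply]
  exact tm_eq_id H _ h t

/-- `f ⊗_ℤ H` as a homomorphism of groups. -/
noncomputable def mt (H : Type*) [AddCommGroup H] {A B : Type*} [AddCommGroup A] [AddCommGroup B] (f : A →+ B) :
    A ⊗[ℤ] H →+ B ⊗[ℤ] H :=
  (LinearMap.rTensor H f.toIntLinearMap).toAddMonoidHom

@[simp] theorem mt_tmul (H : Type*) [AddCommGroup H] {A B : Type*} [AddCommGroup A] [AddCommGroup B]
    (f : A →+ B) (x : H) (a : A) : mt H f (a ⊗ₜ x) = f a ⊗ₜ x := rfl

theorem mt_comp (H : Type*) [AddCommGroup H] {A B C : Type*} [AddCommGroup A] [AddCommGroup B] [AddCommGroup C]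
    (f : A →+ B) (g : B →+ C) (t : A ⊗[ℤ] H) : mt H g (mt H f t) = mt H (g.comp f) t := by
  induction t with
  | zero => simp
  | tmul x a => simp
  | add x y hx hy => simp only [map_add, hx, hy]

theorem mt_add_apply (H : Type*) [AddCommGroup H] {A B : Type*} [AddCommGroup A] [AddCommGroup B]
    (f g : A →+ B) (t : A ⊗[ℤ] H) : mt H (f + g) t = mt H f t + mt H g t := by
  induction t with
  | zero => simp
  | tmul x a => simp [TensorProduct.add_tmul]
  | add x y hx hy => simp only [map_add, hx, hy]; abel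

theorem mt_eq_id (H : Type*) [AddCommGroup H] {A : Type*} [AddCommGroup A] (f : A →+ A) (hf : ∀ a, f a = a)
    (t : A ⊗[ℤ] H) : mt H f t = t := by
  induction t with
  | zero => simp
  | tmul x a => simp [hf]
  | add x y hx hy => simp only [map_add, hx, hy]

theorem mt_eq_zero (H : Type*) [AddCommGroup H] {A B : Type*} [AddCommGroup A] [AddCommGroup B]
    (f : A →+ B) (hf : ∀ a, f a = 0) (t : A ⊗[ℤ] H) : mt H f t = 0 := by
  induction t with
  | zero => simp
  | tmul x a => simp [hf]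
  | add x y hx hy => simp only [map_add, hx, hy, add_zero]

theorem mt_homotopy (H : Type*) [AddCommGroup H] {A B C : Type*} [AddCommGroup A] [AddCommGroup B]
    [AddCommGroup C] (f : A →+ B) (g : B →+ C) (r : B →+ A) (s : C →+ B) (h : ∀ b, f (r b) + s (g b) = b)
    (t : B ⊗[ℤ] H) : mt H f (mt H r t) + mt H s (mt H g t) = t := by
  rw [mt_comp, mt_comp, ← mt_add_apply]
  exact mt_eq_id H _ h t

/-- `- ⊗_ℤ H` preserves exact sequences of groups killed by `ℓ`. -/
theorem mt_exact (ℓ : ℕ) [Fact ℓ.Prime] (H : Type*) [AddCommGroup H] {A B C : Type*} [AddCommGroup A]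
    [AddCommGroup B] [AddCommGroup C] (hA : ∀ a : A, ℓ • a = 0) (hB : ∀ a : B, ℓ • a = 0)
    (hC : ∀ a : C, ℓ • a = 0) (f : A →+ B) (g : B →+ C) (h : ∀ b, g b = 0 → ∃ a, f a = b) (t : B ⊗[ℤ] H)
    (ht : mt H g t = 0) : ∃ t', mt H f t' = t := by
  obtain ⟨r, s, hrs⟩ := exists_homotopy ℓ hA hB hC f g h
  refine ⟨mt H r t, ?_⟩
  have h1 := mt_homotopy H f g r s hrs t
  rwa [ht, map_zero, add_zero] at h1

end Groth.Agent.Etsix.H994.Homotopy
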