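import Groth.Agent.Etsix.H994.DimShift
import Groth.Agent.Etsix.H994.Homotopy
import Mathlib.Algebra.Homology.DerivedCategory.Ext.ExactSequences
import Mathlib.Algebra.Homology.DerivedCategory.Ext.EnoughInjectives
import Mathlib.Algebra.Homology.ShortComplex.ExactFunctor
import Mathlib.Algebra.BigOperators.Fin

/-!
# The delta functors `Ext^n(Z, F -)`, `⊕_i A_i ⊗ Ext^{n-i}(Z, -)` and `Ext^n(Z, -) ⊗ A`
-/

set_option autoImplicit false

universe w w' v v' u u'

open CategoryTheory CategoryTheory.Limits CategoryTheory.Abelian TensorProduct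

namespace Groth.Agent.Etsix.H994.ExtDelta

open DimShift Groth.Agent.Etsix.H994.Homotopy

variable {C : Type u} [Category.{v} C] [Abelian C]

section U

variable {D : Type u'} [Category.{v'} D] [Abelian D] [HasExt.{w'} D] (F : C ⥤ D) [F.Additive]
  [PreservesFiniteLimits F] [PreservesFiniteColimits F] (Z : D)

/-- The delta functor `Ext^n(Z, F -)` for an exact functor `F`. -/
noncomputable def extDelta : Delta C (fun n L => Ext Z (F.obj L) n) where
  map n {_ _} φ := (Ext.mk₀ (F.map φ)).postcomp Z (add_zero n)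
  δ n _ hS := (hS.map_of_exact F).extClass.postcomp Z rfl
  zero_inj S hS t ht := by
    have : Mono (F.map S.f) := (hS.map_of_exact F).mono_f
    exact (injective_iff_map_eq_zero _).1 (Ext.postcomp_mk₀_injective_of_mono Z (F.map S.f)) t ht
  ex₁ n S hS t ht := Ext.covariant_sequence_exact₁ Z (hS.map_of_exact F) t ht rfl
  ex₂ n S hS t ht := Ext.covariant_sequence_exact₂ Z (hS.map_of_exact F) t ht
  ex₃ n S hS t ht := Ext.covariant_sequence_exact₃ Z (hS.map_of_exact F) t rfl ht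
  fg n S hS t := by
    change (t.comp (Ext.mk₀ (F.map S.f)) (add_zero n)).comp (Ext.mk₀ (F.map S.g)) (add_zero n) = 0
    rw [Ext.comp_assoc_of_third_deg_zero, Ext.mk₀_comp_mk₀, ← F.map_comp, S.zero, F.map_zero, Ext.mk₀_zero,
      Ext.comp_zero]
  gδ n S hS t := by
    change (t.comp (Ext.mk₀ (F.map S.g)) (add_zero n)).comp (hS.map_of_exact F).extClass rfl = 0
    rw [Ext.comp_assoc_of_second_deg_zero]
    have h : (Ext.mk₀ (F.map S.g)).comp (hS.map_of_exact F).extClass (zero_add 1) = 0 :=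
      (hS.map_of_exact F).comp_extClass
    rw [h, Ext.comp_zero]

end U

section Tl

variable [HasExt.{w} C] (A : ℕ → Type w') [∀ i, AddCommGroup (A i)] (Z : C) (ℓ : ℕ) [Fact ℓ.Prime]
  (hℓ : ∀ (L : C) (n : ℕ) (x : Ext Z L n), ℓ • x = 0)

/-- The family `T^n(L) = ⊕_{i ≤ n} A_i ⊗ Ext^{n-i}(Z, L)`, as a product. -/
abbrev Tl (n : ℕ) (L : C) : Type (max w' w) := ∀ i : Fin (n + 1), A i ⊗[ℤ] Ext Z L (n - i)

/-- Componentwise map. -/
noncomputable def piMap {ι : Type*} {M N : ι → Type*} [∀ i, AddCommGroup (M i)] [∀ i, AddCommGroup (N i)]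
    (f : ∀ i, M i →+ N i) : (∀ i, M i) →+ (∀ i, N i) where
  toFun t i := f i (t i)
  map_zero' := by ext i; simp
  map_add' x y := by ext i; simp

@[simp] theorem piMap_apply {ι : Type*} {M N : ι → Type*} [∀ i, AddCommGroup (M i)] [∀ i, AddCommGroup (N i)]
    (f : ∀ i, M i →+ N i) (t : ∀ i, M i) (i : ι) : piMap f t i = f i (t i) := rfl

/-- Extension by zero at the last index. -/
noncomputable def snocHom {n : ℕ} {M : Fin n → Type*} {N : Fin (n + 1) → Type*} [∀ i, AddCommGroup (M i)]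
    [∀ i, AddCommGroup (N i)] (f : ∀ i : Fin n, M i →+ N i.castSucc) : (∀ i, M i) →+ (∀ i, N i) where
  toFun t := Fin.snoc (α := N) (fun i => f i (t i)) 0
  map_zero' := by
    funext i
    refine Fin.lastCases ?_ (fun j => ?_) i
    · simp
    · simp
  map_add' x y := by
    funext i
    refine Fin.lastCases ?_ (fun j => ?_) i
    · simp
    · simp

@[simp] theorem snocHom_castSucc {n : ℕ} {M : Fin n → Type*} {N : Fin (n + 1) → Type*} [∀ i, AddCommGroup (M i)]
    [∀ i, AddCommGroup (N i)] (f : ∀ i : Fin n, M i →+ N i.castSucc) (t : ∀ i, M i) (i : Fin n) :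
    snocHom f t i.castSucc = f i (t i) := by
  simp [snocHom]

@[simp] theorem snocHom_last {n : ℕ} {M : Fin n → Type*} {N : Fin (n + 1) → Type*} [∀ i, AddCommGroup (M i)]
    [∀ i, AddCommGroup (N i)] (f : ∀ i : Fin n, M i →+ N i.castSucc) (t : ∀ i, M i) :
    snocHom f t (Fin.last n) = 0 := by
  simp [snocHom]

omit [Abelian C] in
theorem sub_castSucc_add {n : ℕ} (i : Fin (n + 1)) : (n - (i : ℕ)) + 1 = n + 1 - (i.castSucc : ℕ) := by
  have := i.2
  simp only [Fin.val_castSucc]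
  omega

/-- `A ⊗ -` preserves the exactness of `A → B → C` (groups killed by `ℓ`). -/
theorem tm_exact (H : Type*) [AddCommGroup H] {A B E : Type*} [AddCommGroup A] [AddCommGroup B] [AddCommGroup E]
    (hA : ∀ a : A, ℓ • a = 0) (hB : ∀ a : B, ℓ • a = 0) (hE : ∀ a : E, ℓ • a = 0)
    (f : A →+ B) (g : B →+ E) (h : ∀ b, g b = 0 → ∃ a, f a = b) (t : H ⊗[ℤ] B) (ht : tm H g t = 0) :
    ∃ t', tm H f t' = t := by
  obtain ⟨r, s, hrs⟩ := exists_homotopy ℓ hA hB hE f g h
  refine ⟨tm H r t, ?_⟩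
  have h1 := tm_homotopy H f g r s hrs t
  rwa [ht, map_zero, add_zero] at h1

/-- `A ⊗ -` preserves injectivity (groups killed by `ℓ`). -/
theorem tm_injective (H : Type*) [AddCommGroup H] {B E : Type*} [AddCommGroup B] [AddCommGroup E]
    (hB : ∀ a : B, ℓ • a = 0) (hE : ∀ a : E, ℓ • a = 0)
    (g : B →+ E) (h : ∀ b, g b = 0 → b = 0) (t : H ⊗[ℤ] B) (ht : tm H g t = 0) : t = 0 := by
  obtain ⟨t', ht'⟩ := tm_exact ℓ H (A := PUnit.{1}) (fun _ => rfl) hB hE (0 : PUnit.{1} →+ B) g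
    (fun b hb => ⟨0, (h b hb).symm⟩) t ht
  rw [← ht']
  exact tm_eq_zero H _ (fun _ => rfl) t'

variable {ℓ}

/-- The delta functor `T^n(L) = ⊕_{i ≤ n} A_i ⊗ Ext^{n-i}(Z, L)`. -/
noncomputable def tlDelta (hℓ : ∀ (L : C) (n : ℕ) (x : Ext Z L n), ℓ • x = 0) : Delta C (Tl A Z) where
  map n {_ _} φ := piMap (fun i => tm (A i) ((Ext.mk₀ φ).postcomp Z (add_zero (n - i))))
  δ n _ hS := snocHom (fun i => tm (A i) (hS.extClass.postcomp Z (sub_castSucc_add i)))
  zero_inj S hS t ht := by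
    funext i
    have : Subsingleton (Fin (0 + 1)) := inferInstanceAs (Subsingleton (Fin 1))
    obtain rfl : i = 0 := Subsingleton.elim _ _
    have : Mono S.f := hS.mono_f
    exact tm_injective ℓ (A ((0 : Fin 1) : ℕ)) (hℓ _ _) (hℓ _ _)
      ((Ext.mk₀ S.f).postcomp Z (add_zero (0 - ((0 : Fin 1) : ℕ))))
      (fun b hb => (injective_iff_map_eq_zero _).1 (Ext.postcomp_mk₀_injective_of_mono Z S.f) b hb) (t 0) (congrFun ht 0)
  ex₁ n S hS t ht := by
    have : Mono S.f := hS.mono_f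
    have h1 : ∀ j : Fin (n + 1), ∃ t', tm (A j) (hS.extClass.postcomp Z (sub_castSucc_add j)) t' = t j.castSucc :=
      fun j => tm_exact ℓ (A j) (hℓ _ _) (hℓ _ _) (hℓ _ _) _
        ((Ext.mk₀ S.f).postcomp Z (add_zero (n + 1 - (j.castSucc : ℕ))))
        (fun b hb => Ext.covariant_sequence_exact₁ Z hS b hb (sub_castSucc_add j)) _ (congrFun ht j.castSucc)
    choose t' ht' using h1
    refine ⟨t', ?_⟩
    funext i
    refine Fin.lastCases ?_ (fun j => ?_) i
    · rw [snocHom_last]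
      have hinj : ∀ (q : ℕ) (_ : q = 0) (b : Ext Z S.X₁ q), b.comp (Ext.mk₀ S.f) (add_zero q) = 0 → b = 0 := by
        rintro q rfl b hb
        exact (injective_iff_map_eq_zero _).1 (Ext.postcomp_mk₀_injective_of_mono Z S.f) b hb
      refine (tm_injective ℓ (A ((Fin.last (n + 1) : Fin (n + 1 + 1)) : ℕ)) (hℓ _ _) (hℓ _ _)
        ((Ext.mk₀ S.f).postcomp Z (add_zero (n + 1 - ((Fin.last (n + 1) : Fin (n + 1 + 1)) : ℕ))))
        (hinj _ (by simp)) _ (congrFun ht (Fin.last (n + 1)))).symm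
    · rw [snocHom_castSucc, ht']
  ex₂ n S hS t ht := by
    have h1 : ∀ j : Fin (n + 1), ∃ t', tm (A j) ((Ext.mk₀ S.f).postcomp Z (add_zero (n - j))) t' = t j :=
      fun j => tm_exact ℓ (A j) (hℓ _ _) (hℓ _ _) (hℓ _ _) _ ((Ext.mk₀ S.g).postcomp Z (add_zero (n - j)))
        (fun b hb => Ext.covariant_sequence_exact₂ Z hS b hb) _ (congrFun ht j)
    choose t' ht' using h1
    exact ⟨t', funext ht'⟩
  ex₃ n S hS t ht := by
    have h1 : ∀ j : Fin (n + 1), ∃ t', tm (A j) ((Ext.mk₀ S.g).postcomp Z (add_zero (n - j))) t' = t j :=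
      fun j => tm_exact ℓ (A j) (hℓ _ _) (hℓ _ _) (hℓ _ _) _ (hS.extClass.postcomp Z (sub_castSucc_add j))
        (fun b hb => Ext.covariant_sequence_exact₃ Z hS b (sub_castSucc_add j) hb) _ (by
          have h2 := congrFun ht j.castSucc
          rwa [snocHom_castSucc] at h2)
    choose t' ht' using h1
    exact ⟨t', funext ht'⟩
  fg n S hS t := by
    funext j
    change tm (A j) _ (tm (A j) _ (t j)) = 0
    rw [tm_comp]
    refine tm_eq_zero _ _ (fun a => ?_) _
    change (a.comp (Ext.mk₀ S.f) (add_zero (n - j))).comp (Ext.mk₀ S.g) (add_zero (n - j)) = 0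
    rw [Ext.comp_assoc_of_third_deg_zero, Ext.mk₀_comp_mk₀, S.zero, Ext.mk₀_zero, Ext.comp_zero]
  gδ n S hS t := by
    funext i
    refine Fin.lastCases ?_ (fun j => ?_) i
    · rw [snocHom_last]
      rfl
    · rw [snocHom_castSucc]
      change tm (A j) _ (tm (A j) _ (t j)) = 0
      rw [tm_comp]
      refine tm_eq_zero _ _ (fun a => ?_) _
      change (a.comp (Ext.mk₀ S.g) (add_zero (n - j))).comp hS.extClass (sub_castSucc_add j) = 0
      rw [Ext.comp_assoc_of_second_deg_zero, hS.comp_extClass, Ext.comp_zero]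

/-- The delta functor `T^n(K) = Ext^n(Z, K) ⊗ A`. -/
noncomputable def tkDelta (H : Type w') [AddCommGroup H] (hℓ : ∀ (L : C) (n : ℕ) (x : Ext Z L n), ℓ • x = 0) :
    Delta C (fun n K => Ext Z K n ⊗[ℤ] H) where
  map n {_ _} φ := mt H ((Ext.mk₀ φ).postcomp Z (add_zero n))
  δ n _ hS := mt H (hS.extClass.postcomp Z rfl)
  zero_inj S hS t ht := by
    have : Mono S.f := hS.mono_f
    obtain ⟨t', ht'⟩ := mt_exact ℓ H (A := PUnit.{1}) (fun _ => rfl) (hℓ _ _) (hℓ _ _) (0 : PUnit.{1} →+ _)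
      ((Ext.mk₀ S.f).postcomp Z (add_zero 0))
      (fun b hb => ⟨0, ((injective_iff_map_eq_zero _).1 (Ext.postcomp_mk₀_injective_of_mono Z S.f) b hb).symm⟩) t ht
    rw [← ht']
    exact mt_eq_zero H _ (fun _ => rfl) t'
  ex₁ n S hS t ht := mt_exact ℓ H (hℓ _ _) (hℓ _ _) (hℓ _ _) _ _
    (fun b hb => Ext.covariant_sequence_exact₁ Z hS b hb rfl) t ht
  ex₂ n S hS t ht := mt_exact ℓ H (hℓ _ _) (hℓ _ _) (hℓ _ _) _ _
    (fun b hb => Ext.covariant_sequence_exact₂ Z hS b hb) t ht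
  ex₃ n S hS t ht := mt_exact ℓ H (hℓ _ _) (hℓ _ _) (hℓ _ _) _ _
    (fun b hb => Ext.covariant_sequence_exact₃ Z hS b rfl hb) t ht
  fg n S hS t := by
    rw [mt_comp]
    refine mt_eq_zero _ _ (fun a => ?_) _
    change (a.comp (Ext.mk₀ S.f) (add_zero n)).comp (Ext.mk₀ S.g) (add_zero n) = 0
    rw [Ext.comp_assoc_of_third_deg_zero, Ext.mk₀_comp_mk₀, S.zero, Ext.mk₀_zero, Ext.comp_zero]
  gδ n S hS t := by
    rw [mt_comp]
    refine mt_eq_zero _ _ (fun a => ?_) _
    change (a.comp (Ext.mk₀ S.g) (add_zero n)).comp hS.extClass rfl = 0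
    rw [Ext.comp_assoc_of_second_deg_zero, hS.comp_extClass, Ext.comp_zero]

end Tl

end Groth.Agent.Etsix.H994.ExtDelta
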