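import Groth.Agent.Etsix.H994.CrossFun
import Groth.Agent.Etsix.H994.AbsCross
import Groth.Agent.Etsix.H994.TensorBasis
import Groth.Agent.Etsix.H994.ExtInst

/-!
# Reduction of the Kuenneth statement to the two geometric inputs (general coefficient ring)

Stated for a general coefficient ring `Λ` because the kernel is very slow on `ULift (ZMod ℓ)`-instances.
-/

set_option autoImplicit false

universe u

open CategoryTheory CategoryTheory.Limits AlgebraicGeometry Opposite MonoidalCategory TensorProduct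
attribute [local instance] HasDerivedCategory.standard
attribute [local instance 10000] Groth.Agent.Etsix.H994.ExtInst.hasExt_mod

namespace Groth.Agent.Etsix.H994.ReduceGen

open CrossFun

/-- Classes are killed by `ℓ`. -/
theorem smul_eq_zero' (ℓ : ℕ) {C : Type*} [Category* C] [Abelian C] [HasExt.{u + 1} C] (hC : ∀ L : C, ℓ • 𝟙 L = 0)
    {o : C} (L : C) (n : ℕ) (x : Abelian.Ext.{u + 1} o L n) : ℓ • x = 0 := by
  have h : ℓ • x = x.comp (Abelian.Ext.mk₀ (ℓ • 𝟙 L)) (add_zero n) := by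
    have h1 : (Abelian.Ext.mk₀ (ℓ • 𝟙 L) : Abelian.Ext.{u + 1} L L 0) = ℓ • Abelian.Ext.mk₀ (𝟙 L) :=
      map_nsmul (Abelian.Ext.addEquiv₀ (X := L) (Y := L)).symm ℓ (𝟙 L)
    rw [h1]
    have h2 := map_nsmul ((Abelian.Ext.bilinearComp o L L n 0 n (add_zero n)) x) ℓ (Abelian.Ext.mk₀ (𝟙 L))
    refine (Eq.symm ?_)
    refine h2.trans ?_
    congr 1
    exact Abelian.Ext.comp_mk₀_id x
  rw [h, hC, Abelian.Ext.mk₀_zero, Abelian.Ext.comp_zero]

variable (Λ : Type (u + 1)) [CommRing Λ]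

theorem smul_id_eq_zero (ℓ : ℕ) (hΛ : (ℓ : Λ) = 0) (X : Scheme.{u}) (F : EtModW.Mod Λ X) : ℓ • 𝟙 F = 0 := by
  ext V x
  have h1 : ((ℓ • 𝟙 F : F ⟶ F).hom.app V).hom x = ℓ • x := by
    have h4 := (sheafToPresheaf X.smallEtaleTopology (ModuleCat.{u + 1} Λ) ⋙
      (evaluation _ _).obj V).map_nsmul (f := 𝟙 F) (n := ℓ)
    have h5 : (ℓ • 𝟙 F : F ⟶ F).hom.app V = ℓ • 𝟙 (F.obj.obj V) := by
      refine h4.trans ?_
      congr 1
    rw [h5, ModuleCat.hom_nsmul]
    rfl
  have h2 : ℓ • x = ((ℓ : Λ) • x : F.obj.obj V) := (Nat.cast_smul_eq_nsmul _ _ _).symm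
  rw [hΛ, zero_smul] at h2
  exact h1.trans h2

variable {X Y S : Scheme.{u}} (f : X ⟶ S) (g : Y ⟶ S)

/-- The abstract reduction applied to étale sheaves (general `Λ`, no `HMod` in the statement). -/
theorem main_ext (ℓ : ℕ) [Fact ℓ.Prime] (hΛ : (ℓ : Λ) = 0)
    (hflat : ∀ (M : Type (u + 1)) [AddCommGroup M] [Module Λ M], Module.Flat Λ M)
    [hPL : ∀ F : EtModW.Mod Λ (pullback f g), PreservesFiniteLimits ((EtModD.tensorBi Λ (pullback f g)).obj F)]
    (h0 : ∀ (I : EtModW.Mod Λ X) (J : EtModW.Mod Λ Y)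
      [Injective I] [Injective J],
      Function.Bijective (AbsCross.crT (EtModW.pull Λ (pullback.fst f g))
        (EtModW.pull Λ (pullback.snd f g))
        (EtSix.pullConstΛ Λ (pullback.fst f g)).inv
        (EtSix.pullConstΛ Λ (pullback.snd f g)).inv I
        ((EtModD.tensorBi Λ (pullback f g)).obj
          ((EtModW.pull Λ (pullback.fst f g)).obj I)) (EtSix.unitMap _) J 0 0 (add_zero 0)))
    (h1 : ∀ (I : EtModW.Mod Λ X) (J : EtModW.Mod Λ Y)
      [Injective I] [Injective J] (n : ℕ), 0 < n →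
      Subsingleton (Abelian.Ext.{u + 1} (EtSix.constΛ Λ (pullback f g))
        (EtSix.boxtimes Λ f g I J) n))
    (K : EtModW.Mod Λ X) (n : ℕ) (L : EtModW.Mod Λ Y) :
    Function.Bijective (AbsCross.crSum (EtModW.pull Λ (pullback.fst f g))
        (EtModW.pull Λ (pullback.snd f g))
        (EtSix.pullConstΛ Λ (pullback.fst f g)).inv
        (EtSix.pullConstΛ Λ (pullback.snd f g)).inv K
        ((EtModD.tensorBi Λ (pullback f g)).obj
          ((EtModW.pull Λ (pullback.fst f g)).obj K)) (EtSix.unitMap _) L n) :=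
  have : ∀ F : EtModW.Mod Λ (pullback f g),
      PreservesFiniteLimits ((EtModD.tensorBi Λ (pullback f g)).flip.obj F) := fun F =>
    have := preservesFiniteLimits_tensorBi_obj Λ (pullback f g) (fun M _ _ => hflat M) F
    preservesFiniteLimits_of_natIso (Sga4h.ModDTensor.flipObjIso F).symm
  AbsCross.main (EtModW.pull Λ (pullback.fst f g))
        (EtModW.pull Λ (pullback.snd f g))
        (EtSix.pullConstΛ Λ (pullback.fst f g)).inv
        (EtSix.pullConstΛ Λ (pullback.snd f g)).inv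
        (EtModD.tensorBi Λ (pullback f g)) (fun A => EtSix.unitMap A)
        (fun φ => unitMap_naturality φ) ℓ
        (fun K n x => smul_eq_zero' ℓ (smul_id_eq_zero Λ ℓ hΛ X) K n x)
        (fun K n x => smul_eq_zero' ℓ (smul_id_eq_zero Λ ℓ hΛ Y) K n x) h0 h1 K n L

end Groth.Agent.Etsix.H994.ReduceGen
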