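import Groth.Agent.Sga4h.BidTens
import Groth.Agent.Sga4h.ModPoint
import Groth.Agent.Sga4h.TensorUnit
import Groth.Agent.Etcore.LPullComp
import Groth.Prelude.Def_SixF2

/-!
# The fibre of an external product over a rational point

For `ξ : Spec k ⟶ Y` a section of `g` and `h : X ⟶ X ×_k Y` the corresponding closed immersion,
`h^* (I ⊠ J)` is a direct sum of copies of `I`.
-/

set_option autoImplicit false

universe u

open CategoryTheory CategoryTheory.Limits AlgebraicGeometry Opposite MonoidalCategory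

namespace Groth.Agent.Etsix.H994.SecPt

section Geometry

variable {S X Y : Scheme.{u}} (f : X ⟶ S) (g : Y ⟶ S) (ξ : S ⟶ Y) (hξ : ξ ≫ g = 𝟙 S)

/-- The morphism `(1, ξ f) : X ⟶ X ×_S Y`. -/
noncomputable def sec : X ⟶ pullback f g :=
  pullback.lift (𝟙 X) (f ≫ ξ) (by rw [Category.id_comp, Category.assoc, hξ, Category.comp_id])

@[reassoc (attr := simp)] theorem sec_fst : sec f g ξ hξ ≫ pullback.fst f g = 𝟙 X := by
  unfold sec; exact pullback.lift_fst _ _ _

@[reassoc (attr := simp)] theorem sec_snd : sec f g ξ hξ ≫ pullback.snd f g = f ≫ ξ := by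
  unfold sec; exact pullback.lift_snd _ _ _

theorem isPullback_sec : IsPullback (sec f g ξ hξ) f (pullback.snd f g) ξ := by
  have h1 : IsPullback (pullback.fst f g) (pullback.snd f g) f g := IsPullback.of_hasPullback f g
  refine IsPullback.of_right (h₁₂ := pullback.fst f g) (h₂₂ := g) (v₁₃ := f) ?_ (sec_snd f g ξ hξ) h1
  rw [sec_fst, hξ]
  exact IsPullback.of_horiz_isIso ⟨by simp⟩

end Geometry

section Free

variable {Λ : Type (u + 1)} [CommRing Λ]

/-- `C →₀ Λ` is the coproduct of copies of `Λ`. -/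
noncomputable def finsuppCofan (C : Type (u + 1)) : Cofan (fun _ : C => ModuleCat.of.{u + 1} Λ Λ) :=
  Cofan.mk (ModuleCat.of Λ (C →₀ Λ)) (fun c => ModuleCat.ofHom (Finsupp.lsingle c))

/-- `C →₀ Λ` is the coproduct of copies of `Λ`. -/
noncomputable def isColimitFinsupp (C : Type (u + 1)) : IsColimit (finsuppCofan (Λ := Λ) C) :=
  Cofan.IsColimit.mk _ (fun s => ModuleCat.ofHom (Finsupp.lsum Λ (fun c => (s.inj c).hom)))
    (fun s c => by
      refine ModuleCat.hom_ext (LinearMap.ext fun x => ?_)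
      change (Finsupp.lsum Λ (fun c => (s.inj c).hom)) (Finsupp.single c x) = (s.inj c).hom x
      exact Finsupp.lsum_single _ _ _ _)
    (fun s m hm => by
      refine ModuleCat.hom_ext (Finsupp.lhom_ext fun c x => ?_)
      change m.hom (Finsupp.single c x) = (Finsupp.lsum Λ (fun c => (s.inj c).hom)) (Finsupp.single c x)
      rw [Finsupp.lsum_single]
      exact congrArg (fun φ => φ.hom x) (hm c))

/-- A functor preserving coproducts sends a free module to a coproduct of copies of its value at `Λ`. -/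
theorem nonempty_iso_sigma {E : Type*} [Category* E] (Φ : ModuleCat.{u + 1} Λ ⥤ E)
    [PreservesColimitsOfSize.{u + 1, u + 1} Φ] [HasCoproducts.{u + 1} E] (I : E)
    (e : Φ.obj (ModuleCat.of Λ Λ) ≅ I) (M : ModuleCat.{u + 1} Λ) [Module.Free Λ M] :
    ∃ C : Type (u + 1), Nonempty (Φ.obj M ≅ ∐ fun _ : C => I) := by
  let C := Module.Free.ChooseBasisIndex Λ M
  let b : Module.Basis C Λ M := Module.Free.chooseBasis Λ M
  let e1 : M ≅ ModuleCat.of Λ (C →₀ Λ) := LinearEquiv.toModuleIso b.repr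
  have : PreservesColimit (Discrete.functor fun _ : C => ModuleCat.of.{u + 1} Λ Λ) Φ := inferInstance
  let hc := isColimitCofanMkObjOfIsColimit Φ (fun _ : C => ModuleCat.of.{u + 1} Λ Λ) _
    (isColimitFinsupp (Λ := Λ) C)
  have e3 : (∐ fun _ : C => Φ.obj (ModuleCat.of.{u + 1} Λ Λ)) ≅ ∐ fun _ : C => I := Sigma.mapIso (fun _ => e)
  exact ⟨C, ⟨Φ.mapIso e1 ≪≫ ((coproductIsCoproduct _).coconePointUniqueUpToIso hc).symm ≪≫ e3⟩⟩

variable {X : Scheme.{u}} (I : EtModW.Mod Λ X)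

/-- The functor `M ↦ I ⊗ M_X`. -/
noncomputable abbrev tensConst : ModuleCat.{u + 1} Λ ⥤ EtModW.Mod Λ X :=
  constantSheaf X.smallEtaleTopology (ModuleCat.{u + 1} Λ) ⋙ (EtModD.tensorBi Λ X).obj I

theorem preservesColimits_tensConst : PreservesColimitsOfSize.{u + 1, u + 1} (tensConst I) := by
  have h1 : PreservesColimitsOfSize.{u + 1, u + 1} (constantSheaf X.smallEtaleTopology (ModuleCat.{u + 1} Λ)) :=
    (Sga4h.ModPoint.constAdj Λ X).leftAdjoint_preservesColimits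
  have h2 : PreservesColimitsOfSize.{u + 1, u + 1} ((EtModD.tensorBi Λ X).obj I) :=
    (Adjunction.ofIsLeftAdjoint ((EtModD.tensorBi Λ X).obj I)).leftAdjoint_preservesColimits
  exact comp_preservesColimits _ _

/-- `I ⊗ Λ_X ≅ I`. -/
noncomputable def tensConstOne : (tensConst I).obj (ModuleCat.of Λ Λ) ≅ I :=
  (Sga4h.TensorUnit.tensorUnitRight Λ X).app I

/-- `I ⊗ M_X` is a direct sum of copies of `I` for `M` free. -/
theorem nonempty_tensConst_iso [HasCoproducts.{u + 1} (EtModW.Mod Λ X)] (M : ModuleCat.{u + 1} Λ) [Module.Free Λ M] :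
    ∃ C : Type (u + 1), Nonempty ((tensConst I).obj M ≅ ∐ fun _ : C => I) :=
  have := preservesColimits_tensConst I
  nonempty_iso_sigma (tensConst I) I (tensConstOne I) M

end Free

section Fibre

variable {Λ : Type (u + 1)} [CommRing Λ] {S X Y : Scheme.{u}} (f : X ⟶ S) (g : Y ⟶ S) (ξ : S ⟶ Y)
  (hξ : ξ ≫ g = 𝟙 S) (I : EtModW.Mod Λ X) (J : EtModW.Mod Λ Y)

open Etcore.LPullComp

/-- `h^* p^* I ≅ I`. -/
noncomputable def isoFst : (EtModW.pull Λ (sec f g ξ hξ)).obj ((EtModW.pull Λ (pullback.fst f g)).obj I) ≅ I :=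
  (pullComp Λ (sec f g ξ hξ) (pullback.fst f g)).app I ≪≫ (pullCongr Λ (sec_fst f g ξ hξ)).app I ≪≫
    (pullId Λ X).app I

/-- `h^* q^* J ≅ f^* ξ^* J`. -/
noncomputable def isoSnd : (EtModW.pull Λ (sec f g ξ hξ)).obj ((EtModW.pull Λ (pullback.snd f g)).obj J) ≅
    (EtModW.pull Λ f).obj ((EtModW.pull Λ ξ).obj J) :=
  (pullComp Λ (sec f g ξ hξ) (pullback.snd f g)).app J ≪≫ (pullCongr Λ (sec_snd f g ξ hξ)).app J ≪≫
    ((pullComp Λ f ξ).app J).symm

/-- `h^* (I ⊠ J) ≅ I ⊗ f^* N` for `N ≅ ξ^* J`. -/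
theorem nonempty_fibreIso {N : EtModW.Mod Λ S} (e : (EtModW.pull Λ ξ).obj J ≅ N) :
    Nonempty ((EtModW.pull Λ (sec f g ξ hξ)).obj (EtSix.boxtimes Λ f g I J) ≅
      ((EtModD.tensorBi Λ X).obj I).obj ((EtModW.pull Λ f).obj N)) := by
  let A := (EtModW.pull Λ (pullback.fst f g)).obj I
  let B := (EtModW.pull Λ (pullback.snd f g)).obj J
  let e1 : (EtModW.pull Λ (sec f g ξ hξ)).obj (((EtModD.tensorBi Λ (pullback f g)).obj A).obj B) ≅
      ((EtModD.tensorBi Λ X).obj ((EtModW.pull Λ (sec f g ξ hξ)).obj A)).obj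
        ((EtModW.pull Λ (sec f g ξ hξ)).obj B) :=
    asIso (Sga4h.BidTens.delta (sec f g ξ hξ) A B)
  let e2 := ((EtModD.tensorBi Λ X).mapIso (isoFst f g ξ hξ I)).app ((EtModW.pull Λ (sec f g ξ hξ)).obj B)
  let e3 := ((EtModD.tensorBi Λ X).obj I).mapIso (isoSnd f g ξ hξ J ≪≫ (EtModW.pull Λ f).mapIso e)
  exact ⟨e1 ≪≫ e2 ≪≫ e3⟩

end Fibre

section Point

variable {Λ : Type (u + 1)} [CommRing Λ] {k : Type u} [Field k] [IsSepClosed k] {X Y : Scheme.{u}}
  (f : X ⟶ Spec (CommRingCat.of k)) (g : Y ⟶ Spec (CommRingCat.of k)) (ξ : Spec (CommRingCat.of k) ⟶ Y)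
  (hξ : ξ ≫ g = 𝟙 _) (I : EtModW.Mod Λ X) (J : EtModW.Mod Λ Y)

/-- `h^* (I ⊠ J)` is a direct sum of copies of `I` (all `Λ`-modules being free). -/
theorem nonempty_fibre_sigma (hfree : ∀ (M : Type (u + 1)) [AddCommGroup M] [Module Λ M], Module.Free Λ M)
    [HasCoproducts.{u + 1} (EtModW.Mod Λ X)] :
    ∃ C : Type (u + 1), Nonempty ((EtModW.pull Λ (sec f g ξ hξ)).obj (EtSix.boxtimes Λ f g I J) ≅
      ∐ fun _ : C => I) := by
  let M : ModuleCat.{u + 1} Λ := (Sga4h.ModPoint.Γ Λ (Spec (CommRingCat.of k))).obj ((EtModW.pull Λ ξ).obj J)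
  let e : (EtModW.pull Λ ξ).obj J ≅
      (constantSheaf (Spec (CommRingCat.of k)).smallEtaleTopology (ModuleCat.{u + 1} Λ)).obj M :=
    (asIso ((Sga4h.ModPoint.constAdj Λ (Spec (CommRingCat.of k))).counit.app ((EtModW.pull Λ ξ).obj J))).symm
  obtain ⟨e1⟩ := nonempty_fibreIso f g ξ hξ I J e
  let e2 : ((EtModD.tensorBi Λ X).obj I).obj ((EtModW.pull Λ f).obj
      ((constantSheaf (Spec (CommRingCat.of k)).smallEtaleTopology (ModuleCat.{u + 1} Λ)).obj M)) ≅
      (tensConst I).obj M :=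
    ((EtModD.tensorBi Λ X).obj I).mapIso ((EtSix.pullConstModIso Λ f).app M)
  have : Module.Free Λ M := hfree M
  obtain ⟨C, ⟨e3⟩⟩ := nonempty_tensConst_iso I M
  exact ⟨C, ⟨e1 ≪≫ e2 ≪≫ e3⟩⟩

end Point

end Groth.Agent.Etsix.H994.SecPt
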