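import Groth.Agent.Etsix.H994.SecPt
import Groth.Agent.Etrest.RpushSum
import Groth.Agent.Etrest.ModAbR
import Groth.Agent.Etrest.HCoprod
import Groth.Agent.EtSix.H3.ClosedPts

/-!
# Vanishing of `R^j pr₂_* (I ⊠ J)` for `j > 0`, `I` injective
-/

set_option autoImplicit false

universe u

open CategoryTheory CategoryTheory.Limits AlgebraicGeometry Opposite MonoidalCategory

namespace Groth.Agent.Etsix.H994.Vanish

open Groth.Agent.Etrest.ModAb

section General

variable {Λ : Type (u + 1)} [CommRing Λ]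

instance hasColimitsOfSize_mod (X : Scheme.{u}) : HasColimitsOfSize.{u + 1, u + 1} (EtModW.Mod Λ X) :=
  IsGrothendieckAbelian.hasColimits (EtModW.Mod Λ X)

theorem hasCoproducts_mod (X : Scheme.{u}) : HasCoproducts.{u + 1} (EtModW.Mod Λ X) := fun _ => inferInstance

/-- `ab` reflects zero objects. -/
theorem isZero_of_ab {X : Scheme.{u}} (F : EtModW.Mod Λ X) (h : IsZero ((ab Λ X).obj F)) : IsZero F := by
  rw [IsZero.iff_id_eq_zero]
  apply (ab Λ X).map_injective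
  exact h.eq_of_src _ _

/-- A sheaf of modules over a ring in which `ℓ = 0` is torsion. -/
theorem isTorsion_ab {X : Scheme.{u}} {ℓ : ℕ} (hℓ : 0 < ℓ) (hΛ : (ℓ : Λ) = 0) (F : EtModW.Mod Λ X) :
    EtCoh.IsTorsion ((ab Λ X).obj F) := by
  intro U s x
  refine ⟨U, 𝟙 U, ⟨x, rfl⟩, ?_⟩
  rw [isOfFinAddOrder_iff_nsmul_eq_zero]
  refine ⟨ℓ, hℓ, ?_⟩
  have h : ∀ y : F.obj.obj (op U), ℓ • y = 0 := fun y => by
    rw [← Nat.cast_smul_eq_nsmul Λ, hΛ, zero_smul]
  rw [← map_nsmul]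
  have h2 : ℓ • s = 0 := h s
  rw [h2, map_zero]

/-- The underlying abelian sheaf of a direct sum of copies of an injective sheaf of modules is acyclic. -/
theorem isZero_Rpush_sigma {X S : Scheme.{u}} (f : X ⟶ S) [QuasiCompact f] [QuasiSeparated f]
    (I : EtModW.Mod Λ X) [Injective I] (C : Type (u + 1)) [HasCoproduct fun _ : C => I] (j : ℕ) (hj : 0 < j) :
    IsZero ((EtCoh.Rpush f j).obj ((ab Λ X).obj (∐ fun _ : C => I))) := by
  have h0 : IsZero ((EtCoh.Rpush f j).obj ((ab Λ X).obj I)) := acyclic_ab Λ I f j hj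
  have h1 : PreservesColimitsOfShape (Discrete C) (EtCoh.Rpush f j) :=
    Etrest.RpushSum.preservesColimitsOfShape_Rpush C f j
  have h2 : PreservesColimitsOfShape (Discrete C) (ab Λ X ⋙ EtCoh.Rpush f j) := inferInstance
  exact Etrest.HCoprod.isZero_obj_colimit (ab Λ X ⋙ EtCoh.Rpush f j) (Discrete.functor fun _ : C => I)
    (colimit.isColimit (Discrete.functor fun _ : C => I)) (fun _ => h0)

end General

/-- Proper base change for the objects `R^q f_*` (the first part of S0001). -/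
def PBC : Prop := ∀ (X Y X' Y' : Scheme.{u}) (f : X ⟶ Y) (g : Y' ⟶ Y)
    (f' : X' ⟶ Y') (g' : X' ⟶ X) (_ : IsPullback g' f' f g) [IsProper f]
    (F : EtCoh.Ab X) (_ : EtCoh.IsTorsion F) (q : ℕ),
    Nonempty ((EtCoh.pull g).obj ((EtCoh.Rpush f q).obj F) ≅ (EtCoh.Rpush f' q).obj ((EtCoh.pull g').obj F))

section Main

variable {Λ : Type (u + 1)} [CommRing Λ] {k : Type u} [Field k] [IsAlgClosed k] {X Y : Scheme.{u}}
  (f : X ⟶ Spec (CommRingCat.of k)) (g : Y ⟶ Spec (CommRingCat.of k)) [IsProper f] [LocallyOfFiniteType g]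

/-- **(i)** `R^j pr₂_* (I ⊠ J) = 0` for `j > 0` and `I` injective. -/
theorem isZero_Rpush (pbc : PBC.{u}) (hfree : ∀ (M : Type (u + 1)) [AddCommGroup M] [Module Λ M], Module.Free Λ M)
    {ℓ : ℕ} (hℓ : 0 < ℓ) (hΛ : (ℓ : Λ) = 0) (I : EtModW.Mod Λ X) [Injective I] (J : EtModW.Mod Λ Y)
    (j : ℕ) (hj : 0 < j) :
    IsZero ((EtCoh.Rpush (pullback.snd f g) j).obj ((ab Λ (pullback f g)).obj (EtSix.boxtimes Λ f g I J))) := by
  let M := EtSix.boxtimes Λ f g I J
  have h1 : IsZero ((EtModW.Rpush Λ (pullback.snd f g) j).obj M) := by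
    refine EtSix.H3.ClosedPts.isZero_of_points g _ (fun ξ hξ => ?_)
    refine isZero_of_ab _ ?_
    refine IsZero.of_iso ?_ ((pullIso Λ ξ).app ((EtModW.Rpush Λ (pullback.snd f g) j).obj M))
    refine IsZero.of_iso ?_ ((EtCoh.pull ξ).mapIso ((rpushIso Λ (pullback.snd f g) j).app M))
    obtain ⟨e⟩ := pbc _ _ _ _ (pullback.snd f g) ξ f (SecPt.sec f g ξ hξ) (SecPt.isPullback_sec f g ξ hξ)
      ((ab Λ (pullback f g)).obj M) (isTorsion_ab hℓ hΛ M) j
    refine IsZero.of_iso ?_ e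
    refine IsZero.of_iso ?_ ((EtCoh.Rpush f j).mapIso ((pullIso Λ (SecPt.sec f g ξ hξ)).app M).symm)
    have hc : HasCoproducts.{u + 1} (EtModW.Mod Λ X) := hasCoproducts_mod X
    obtain ⟨C, ⟨e2⟩⟩ := SecPt.nonempty_fibre_sigma f g ξ hξ I J hfree
    refine IsZero.of_iso ?_ ((EtCoh.Rpush f j).mapIso ((ab Λ X).mapIso e2))
    exact isZero_Rpush_sigma f I C j hj
  exact IsZero.of_iso ((ab Λ Y).map_isZero h1) ((rpushIso Λ (pullback.snd f g) j).app M).symm

end Main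

end Groth.Agent.Etsix.H994.Vanish
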